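import Cfsg.Agent.H67.SECount
import Cfsg.Agent.H66.Inverted

/-!
Groups with an elementary abelian Sylow `2`-subgroup `S` such that the centraliser of each
involution of `S` centralises `S`, `|N(S) : C(S)| = |S| - 1` is prime, and no odd prime is the order
both of an element centralised by an involution and of an element inverted by an involution.
-/

set_option autoImplicit false
set_option linter.unusedSectionVars false
set_option linter.style.haveILetI false

namespace H1.TIElem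

open Subgroup

variable {G : Type*} [Group G]

/-- No odd prime is the order of an element centralised by an involution and the order of an
element inverted by an involution. -/
def RealDisjoint (G : Type*) [Group G] : Prop :=
  ∀ r : ℕ, r.Prime → r ≠ 2 → ∀ t u x y : G, orderOf t = 2 → orderOf u = 2 → orderOf x = r →
    orderOf y = r → Commute x t → u * y * u⁻¹ = y⁻¹ → False

/-- The hypothesis of this file. -/
structure Hyp (S : Subgroup G) (P : ℕ) : Prop where
  prime : P.Prime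
  three : 3 ≤ P
  card_S : Nat.card S = P + 1
  sq : ∀ s ∈ S, s * s = 1
  cent : ∀ t ∈ S, t ≠ 1 → ∀ g, Commute g t → g ∈ centralizer (S : Set G)
  card_N : Nat.card (normalizer (S : Set G)) = P * Nat.card (centralizer (S : Set G))
  odd_index : Odd S.index
  not_normal : normalizer (S : Set G) ≠ ⊤
  disjoint : RealDisjoint G

theorem conj_pow_fixed {g q : G} (h : g * q * g⁻¹ = q⁻¹) (k : ℕ) :
    g * q ^ k * g⁻¹ = (q ^ k)⁻¹ := by
  rw [← conj_pow, h, inv_pow]

namespace Hyp

variable {S : Subgroup G} {P : ℕ}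

/-- The normaliser of `S`. -/
abbrev N (S : Subgroup G) : Subgroup G := normalizer (S : Set G)

/-- The centraliser of `S`. -/
abbrev C (S : Subgroup G) : Subgroup G := centralizer (S : Set G)

/-- The two-point stabiliser. -/
abbrev D (S : Subgroup G) (u : G) : Subgroup G :=
  N S ⊓ (N S).map (MulAut.conj u).toMonoidHom

theorem mem_D [Finite G] {u d : G} : d ∈ D S u ↔ d ∈ N S ∧ u⁻¹ * d * u ∈ N S := H65.mem_inf_conj

variable (h : Hyp S P)

include h

theorem P_ne_two : P ≠ 2 := by have := h.three; omega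

theorem P_odd : Odd P := h.prime.odd_of_ne_two h.P_ne_two

theorem comm_S {a b : G} (ha : a ∈ S) (hb : b ∈ S) : a * b = b * a :=
  calc a * b = (a * b)⁻¹ := eq_inv_of_mul_eq_one_left (h.sq _ (mul_mem ha hb))
    _ = b * a := by
      rw [mul_inv_rev, inv_eq_of_mul_eq_one_right (h.sq a ha),
        inv_eq_of_mul_eq_one_right (h.sq b hb)]

theorem S_le_C : S ≤ C S := fun a ha =>
  mem_centralizer_iff.2 fun _ hb => h.comm_S hb ha

theorem C_le_N : C S ≤ N S := centralizer_le_normalizer (S : Set G)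

theorem S_le_N : S ≤ N S := le_normalizer

theorem comm_C {c s : G} (hc : c ∈ C S) (hs : s ∈ S) : c * s = s * c :=
  (mem_centralizer_iff.1 hc s hs).symm

theorem conj_S {g s : G} (hg : g ∈ N S) (hs : s ∈ S) : g * s * g⁻¹ ∈ S :=
  (mem_normalizer_iff.1 hg s).1 hs

theorem conj_C {g c : G} (hg : g ∈ N S) (hc : c ∈ C S) : g * c * g⁻¹ ∈ C S := by
  refine mem_centralizer_iff.2 fun s hs => ?_
  have h1 : g⁻¹ * s * g ∈ S := by simpa using h.conj_S (inv_mem hg) hs
  have h2 := h.comm_C hc h1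
  calc s * (g * c * g⁻¹) = g * ((g⁻¹ * s * g) * c) * g⁻¹ := by group
    _ = g * (c * (g⁻¹ * s * g)) * g⁻¹ := by rw [h2]
    _ = g * c * g⁻¹ * s := by group

theorem orderOf_mem {s : G} (hs : s ∈ S) (h1 : s ≠ 1) : orderOf s = 2 :=
  orderOf_eq_prime (by rw [pow_two]; exact h.sq s hs) h1

theorem isPGroup : IsPGroup 2 S := fun s => ⟨1, Subtype.ext (by
  rw [coe_pow, pow_one, pow_two]; exact h.sq s s.2)⟩

variable [Finite G]

theorem pow_mem_C {g : G} (hg : g ∈ N S) : g ^ P ∈ C S := by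
  haveI : ((C S).subgroupOf (N S)).Normal :=
    ⟨fun c hc g => mem_subgroupOf.2 (h.conj_C g.2 (mem_subgroupOf.1 hc))⟩
  have hidx : ((C S).subgroupOf (N S)).index = P := by
    have h1 := ((C S).subgroupOf (N S)).card_mul_index
    rw [Nat.card_congr (subgroupOfEquivOfLe h.C_le_N).toEquiv, h.card_N, mul_comm P] at h1
    exact Nat.eq_of_mul_eq_mul_left Nat.card_pos h1
  rw [← hidx]
  exact mem_subgroupOf.1 (pow_index_mem ((C S).subgroupOf (N S)) ⟨g, hg⟩)

theorem pow_mem_C_iff {g : G} (hg : g ∈ N S) (hgC : g ∉ C S) {i : ℤ} :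
    g ^ i ∈ C S ↔ (P : ℤ) ∣ i := by
  refine ⟨fun hi => ?_, ?_⟩
  · by_contra hd
    obtain ⟨a, b, hab⟩ : IsCoprime (P : ℤ) i :=
      (Nat.prime_iff_prime_int.1 h.prime).coprime_iff_not_dvd.2 hd
    apply hgC
    have h1 : g = (g ^ (P : ℤ)) ^ a * (g ^ i) ^ b := by
      rw [← zpow_mul, ← zpow_mul, ← zpow_add, mul_comm (P : ℤ), mul_comm i, hab, zpow_one]
    rw [h1]
    exact mul_mem (zpow_mem (by rw [zpow_natCast]; exact h.pow_mem_C hg) a) (zpow_mem hi b)
  · rintro ⟨k, rfl⟩
    rw [zpow_mul, zpow_natCast]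
    exact zpow_mem (h.pow_mem_C hg) k

/-- `N(S)` is generated modulo `C(S)` by any element outside `C(S)`. -/
theorem decomp {g : G} (hg : g ∈ N S) (hgC : g ∉ C S) {x : G} (hx : x ∈ N S) :
    ∃ c ∈ C S, ∃ i < P, x = c * g ^ i := by
  classical
  let f : C S × Fin P → N S := fun p =>
    ⟨(p.1 : G) * g ^ (p.2 : ℕ), mul_mem (h.C_le_N p.1.2) (pow_mem hg _)⟩
  have hf : Function.Injective f := by
    rintro ⟨c, i⟩ ⟨c', i'⟩ e
    have e' : (c : G) * g ^ (i : ℕ) = (c' : G) * g ^ (i' : ℕ) := congrArg Subtype.val e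
    have h2 : g ^ ((i : ℤ) - (i' : ℤ)) ∈ C S := by
      rw [zpow_sub, zpow_natCast, zpow_natCast,
        show g ^ (i : ℕ) * (g ^ (i' : ℕ))⁻¹ = (c : G)⁻¹ * c' by
          rw [← eq_inv_mul_iff_mul_eq] at e'
          rw [e']; group]
      exact mul_mem (inv_mem c.2) c'.2
    have h3 := (h.pow_mem_C_iff hg hgC).1 h2
    have hii : i = i' := by
      ext
      have h4 : ((i : ℤ) - (i' : ℤ)) = 0 :=
        Int.eq_zero_of_abs_lt_dvd h3 (by
          have := i.2; have := i'.2; rw [abs_lt]; omega)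
      omega
    subst hii
    exact Prod.ext (Subtype.ext (mul_right_cancel e')) rfl
  have hb := hf.bijective_of_nat_card_le (by
    rw [Nat.card_prod, Nat.card_fin, h.card_N, mul_comm])
  obtain ⟨⟨c, i⟩, e⟩ := hb.2 ⟨x, hx⟩
  exact ⟨c, c.2, i, i.2, (congrArg Subtype.val e).symm⟩

theorem commutator_mem_C {a b : G} (ha : a ∈ N S) (hb : b ∈ N S) :
    a * b * a⁻¹ * b⁻¹ ∈ C S := by
  by_cases hbC : b ∈ C S
  · exact mul_mem (h.conj_C ha hbC) (inv_mem hbC)
  obtain ⟨c, hc, i, -, rfl⟩ := h.decomp hb hbC ha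
  rw [show c * b ^ i * b * (c * b ^ i)⁻¹ * b⁻¹ = c * (b * c⁻¹ * b⁻¹) by group]
  exact mul_mem hc (h.conj_C hb (inv_mem hc))

theorem mem_S_of_two_pow {g : G} (hg : g ∈ N S) {k : ℕ} (h2 : g ^ 2 ^ k = 1) : g ∈ S := by
  haveI : Fact (Nat.Prime 2) := ⟨Nat.prime_two⟩
  let T : Sylow 2 G := h.isPGroup.toSylow (Nat.two_dvd_ne_zero.2 (Nat.odd_iff.1 h.odd_index))
  have hp : IsPGroup 2 (zpowers g) := by
    rintro ⟨v, hv⟩
    obtain ⟨m, rfl⟩ := mem_zpowers_iff.mp hv
    exact ⟨k, Subtype.ext (by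
      rw [coe_pow, coe_one, ← zpow_natCast, ← zpow_mul, mul_comm, zpow_mul, zpow_natCast, h2,
        one_zpow])⟩
  have hsup : IsPGroup 2 ↥(zpowers g ⊔ S) :=
    hp.to_sup_of_normal_right' h.isPGroup (zpowers_le.mpr hg)
  have h3 := T.3 hsup le_sup_right
  have h4 : g ∈ zpowers g ⊔ S := mem_sup_left (mem_zpowers g)
  rwa [h3] at h4

theorem invol_mem_S {g : G} (hg : g ∈ N S) (h2 : orderOf g = 2) : g ∈ S :=
  h.mem_S_of_two_pow hg (k := 1) (by rw [pow_one, ← h2, pow_orderOf_eq_one])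

theorem exists_mem_ne_one : ∃ s ∈ S, s ≠ 1 := by
  haveI : Nontrivial S := Finite.one_lt_card_iff_nontrivial.1 (by
    rw [h.card_S]; have := h.three; omega)
  obtain ⟨⟨s, hs⟩, h1⟩ := exists_ne (1 : S)
  exact ⟨s, hs, fun e => h1 (Subtype.ext e)⟩

theorem stronglyEmbedded : Cfsg.IsStronglyEmbedded (N S) := by
  obtain ⟨s₀, hs₀, hs₀1⟩ := h.exists_mem_ne_one
  rw [H65.se_iff h.not_normal (H65.even_card_of_mem (h.S_le_N hs₀) (h.orderOf_mem hs₀ hs₀1))]
  intro t g ht htN hg
  have htS := h.invol_mem_S htN ht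
  have ht' : orderOf (g⁻¹ * t * g) = 2 := by simpa using H67.invol_conj ht g⁻¹
  have ht'S := h.invol_mem_S hg ht'
  rw [mem_normalizer_iff]
  intro w
  constructor
  · intro hw
    have hc : Commute (g * w * g⁻¹) t := by
      have := h.comm_S hw ht'S
      calc g * w * g⁻¹ * t = g * (w * (g⁻¹ * t * g)) * g⁻¹ := by group
        _ = g * ((g⁻¹ * t * g) * w) * g⁻¹ := by rw [this]
        _ = t * (g * w * g⁻¹) := by group
    refine h.mem_S_of_two_pow (h.C_le_N (h.cent t htS (fun e => by simp [e] at ht) _ hc)) (k := 1) ?_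
    rw [pow_one, pow_two]
    calc g * w * g⁻¹ * (g * w * g⁻¹) = g * (w * w) * g⁻¹ := by group
      _ = 1 := by rw [h.sq w hw]; group
  · intro hw
    have hc : Commute w (g⁻¹ * t * g) := by
      have := h.comm_S hw htS
      calc w * (g⁻¹ * t * g) = g⁻¹ * (g * w * g⁻¹ * t) * g := by group
        _ = g⁻¹ * (t * (g * w * g⁻¹)) * g := by rw [this]
        _ = g⁻¹ * t * g * w := by group
    refine h.mem_S_of_two_pow
      (h.C_le_N (h.cent _ ht'S (fun e => by rw [e] at ht'; simp at ht') _ hc)) (k := 1) ?_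
    rw [pow_one, pow_two, show w * w = g⁻¹ * ((g * w * g⁻¹) * (g * w * g⁻¹)) * g by group,
      h.sq _ hw]
    group

theorem exists_invol_not_mem : ∃ u : G, orderOf u = 2 ∧ u ∉ N S :=
  H67.se_exists_invol_not_mem h.stronglyEmbedded

theorem exists_invol_coset {g : G} (hg : g ∉ N S) :
    ∃ i : G, orderOf i = 2 ∧ i ∉ N S ∧ g⁻¹ * i ∈ N S := by
  obtain ⟨i, hi, hgi⟩ := H67.exists_involTo h.stronglyEmbedded hg
  refine ⟨i, hi, fun hiN => hg ?_, hgi⟩
  have := mul_mem hiN (inv_mem hgi)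
  rwa [mul_inv_rev, inv_inv, mul_inv_cancel_left] at this

theorem card_involIn : Nat.card (H67.involIn (N S)) = P := by
  have e : H67.involIn (N S) ≃ {s : S // s ≠ 1} :=
    { toFun := fun t => ⟨⟨t.1, h.invol_mem_S t.2.2 t.2.1⟩, fun e => by
        have h1 := t.2.1
        rw [show t.1 = 1 from congrArg Subtype.val e, orderOf_one] at h1
        omega⟩
      invFun := fun s => ⟨s.1.1, h.orderOf_mem s.1.2 (fun e => s.2 (Subtype.ext e)),
        h.S_le_N s.1.2⟩
      left_inv := fun t => rfl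
      right_inv := fun s => rfl }
  rw [Nat.card_congr e]
  classical
  haveI := Fintype.ofFinite S
  rw [Nat.card_eq_fintype_card, Fintype.card_subtype_compl, Fintype.card_subtype_eq,
    ← Nat.card_eq_fintype_card, h.card_S, Nat.add_sub_cancel]

section point

variable {u : G} (hu : orderOf u = 2) (huN : u ∉ N S)

include hu huN

theorem u_conj_D {d : G} (hd : d ∈ D S u) : u * d * u⁻¹ ∈ D S u := by
  have huu := H67.invol_sq hu
  have hui : u⁻¹ = u := inv_eq_of_mul_eq_one_right huu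
  rw [mem_D] at hd ⊢
  refine ⟨?_, by simpa [mul_assoc] using hd.1⟩
  simpa [hui] using hd.2

theorem odd_D {d : G} (hd : d ∈ D S u) : Odd (orderOf d) :=
  H66.odd_orderOf_of_mem_odd_card (h.stronglyEmbedded.2.2 u huN) d hd

theorem eq_one_of_C_inverted {d : G} (hd : d ∈ D S u) (hdC : d ∈ C S)
    (hinv : u * d * u⁻¹ = d⁻¹) : d = 1 := by
  by_contra h1
  obtain ⟨r, hr, hrd⟩ := Nat.exists_prime_and_dvd (fun e => h1 (orderOf_eq_one_iff.1 e))
  obtain ⟨m, hm⟩ := hrd
  have hpos := orderOf_pos d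
  have hm0 : m ≠ 0 := fun e => by rw [e, mul_zero] at hm; omega
  have ho : orderOf (d ^ m) = r := by
    rw [orderOf_pow_of_dvd hm0 ⟨r, by rw [hm, mul_comm]⟩, hm,
      Nat.mul_div_cancel _ (by omega)]
  obtain ⟨s, hs, hs1⟩ := h.exists_mem_ne_one
  refine h.disjoint r hr ?_ s u (d ^ m) (d ^ m) (h.orderOf_mem hs hs1) hu ho ho
    (h.comm_C (pow_mem hdC m) hs) (conj_pow_fixed hinv m)
  intro e
  have := (h.odd_D hu huN hd).of_dvd_nat (Dvd.intro m hm.symm)
  rw [e] at this
  exact absurd this (by decide)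

theorem exists_inverted : ∃ q ∈ D S u, q ∉ C S ∧ orderOf q = P ∧ u * q * u⁻¹ = q⁻¹ := by
  obtain ⟨s, hs, hs1⟩ := h.exists_mem_ne_one
  obtain ⟨t, ht, ht1, hts⟩ : ∃ t ∈ S, t ≠ 1 ∧ t ≠ s := by
    by_contra hc
    push Not at hc
    have hle : Nat.card S ≤ 2 := by
      classical
      haveI := Fintype.ofFinite S
      rw [Nat.card_eq_fintype_card]
      calc Fintype.card S ≤ ({1, ⟨s, hs⟩} : Finset S).card := by
            refine Finset.card_le_card fun a _ => ?_
            by_cases ha : a = 1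
            · simp [ha]
            · have := hc a a.2 (fun e => ha (Subtype.ext e))
              simp [Subtype.ext (this) (a2 := (⟨s, hs⟩ : S))]
        _ ≤ 2 := Finset.card_le_two
    rw [h.card_S] at hle
    have := h.three
    omega
  obtain ⟨d, hdN, hdu, hinv, hd⟩ := H67.exists_inverted_conj h.stronglyEmbedded hu huN
    (h.orderOf_mem hs hs1) (h.S_le_N hs) (h.orderOf_mem ht ht1) (h.S_le_N ht)
  have hdD : d ∈ D S u := mem_D.2 ⟨hdN, hdu⟩
  have hdC : d ∉ C S := fun hdC => hts (by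
    rw [← hd, h.comm_C hdC hs, mul_inv_cancel_right])
  have hP : d ^ P = 1 := h.eq_one_of_C_inverted hu huN (pow_mem hdD P) (h.pow_mem_C hdN)
    (conj_pow_fixed hinv P)
  haveI : Fact P.Prime := ⟨h.prime⟩
  exact ⟨d, hdD, hdC, orderOf_eq_prime hP (fun e => hdC (e ▸ one_mem _)), hinv⟩

end point

theorem not_commute_P {x t : G} (hx : orderOf x = P) (ht : orderOf t = 2) : ¬ Commute x t := by
  intro hc
  obtain ⟨u, hu, huN⟩ := h.exists_invol_not_mem
  obtain ⟨q, -, -, hq, hinv⟩ := h.exists_inverted hu huN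
  exact h.disjoint P h.prime h.P_ne_two t u x q ht hu hx hq hc hinv

theorem orderOf_C_ne {c : G} (hc : c ∈ C S) : orderOf c ≠ P := by
  intro e
  obtain ⟨s, hs, hs1⟩ := h.exists_mem_ne_one
  exact h.not_commute_P e (h.orderOf_mem hs hs1) (h.comm_C hc hs)

theorem not_dvd_card_C : ¬ P ∣ Nat.card (C S) := by
  intro hd
  haveI : Fact P.Prime := ⟨h.prime⟩
  obtain ⟨c, hc⟩ := exists_prime_orderOf_dvd_card' P hd
  exact h.orderOf_C_ne c.2 (by rw [Subgroup.orderOf_coe]; exact hc)

theorem not_mem_C {q : G} (hq : orderOf q = P) : q ∉ C S := fun hc => h.orderOf_C_ne hc hq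

section point

variable {u : G} (hu : orderOf u = 2) (huN : u ∉ N S)

include hu huN

theorem commuting_mem_C {f : G} (hf : f ∈ D S u) (hfu : Commute f u) : f ∈ C S := by
  by_contra hfC
  have hfN := (mem_D.1 hf).1
  have hP : P ∣ orderOf f := by
    by_contra hd
    apply hfC
    have hco : Nat.Coprime P (orderOf f) := (h.prime.coprime_iff_not_dvd).2 hd
    obtain ⟨m, hm⟩ := exists_pow_eq_self_of_coprime hco
    rw [← hm]
    exact pow_mem (h.pow_mem_C hfN) m
  obtain ⟨m, hm⟩ := hP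
  have hpos := orderOf_pos f
  have hm0 : m ≠ 0 := fun e => by rw [e, mul_zero] at hm; omega
  have ho : orderOf (f ^ m) = P := by
    rw [orderOf_pow_of_dvd hm0 ⟨P, by rw [hm, mul_comm]⟩, hm,
      Nat.mul_div_cancel _ (by omega)]
  exact h.not_commute_P ho hu (hfu.pow_left m)

theorem card_inverted_le : Nat.card (Cfsg.invertedBy (D S u) u) ≤ P := by
  rw [← h.card_involIn, ← H67.card_involTo h.stronglyEmbedded huN]
  haveI : Finite (H67.involTo (N S) u) := Subtype.finite
  have huu := H67.invol_sq hu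
  refine Nat.card_le_card_of_injective (fun d : Cfsg.invertedBy (D S u) u =>
    (⟨u * d.1, ?_, by rw [inv_mul_cancel_left]; exact (mem_D.1 d.2.1).1⟩ : H67.involTo (N S) u)) ?_
  · refine orderOf_eq_prime ?_ fun e => huN ?_
    · show (u * d.1) ^ 2 = 1
      calc (u * d.1) ^ 2 = (u * d.1 * u⁻¹) * (u * u) * d.1 := by rw [pow_two]; group
        _ = 1 := by rw [huu, mul_one, d.2.2, inv_mul_cancel]
    · rw [eq_inv_of_mul_eq_one_left e]
      exact inv_mem (mem_D.1 d.2.1).1
  · intro a b e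
    exact Subtype.ext (mul_left_cancel (congrArg Subtype.val e))

theorem card_D : Nat.card (D S u) = P * Nat.card ↥(D S u ⊓ C S) := by
  obtain ⟨q, hqD, hqC, -, -⟩ := h.exists_inverted hu huN
  let f : ↥(D S u ⊓ C S) × Fin P → D S u := fun p =>
    ⟨(p.1 : G) * q ^ (p.2 : ℕ), mul_mem p.1.2.1 (pow_mem hqD _)⟩
  have hf : Function.Bijective f := by
    refine ⟨?_, ?_⟩
    · rintro ⟨c, i⟩ ⟨c', i'⟩ e
      have e' : (c : G) * q ^ (i : ℕ) = (c' : G) * q ^ (i' : ℕ) := congrArg Subtype.val e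
      have h2 : q ^ ((i : ℤ) - (i' : ℤ)) ∈ C S := by
        rw [zpow_sub, zpow_natCast, zpow_natCast,
          show q ^ (i : ℕ) * (q ^ (i' : ℕ))⁻¹ = (c : G)⁻¹ * c' by
            rw [← eq_inv_mul_iff_mul_eq] at e'
            rw [e']; group]
        exact mul_mem (inv_mem c.2.2) c'.2.2
      have h3 := (h.pow_mem_C_iff (mem_D.1 hqD).1 hqC).1 h2
      have hii : i = i' := by
        ext
        have h4 : ((i : ℤ) - (i' : ℤ)) = 0 :=
          Int.eq_zero_of_abs_lt_dvd h3 (by
            have := i.2; have := i'.2; rw [abs_lt]; omega)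
        omega
      subst hii
      exact Prod.ext (Subtype.ext (mul_right_cancel e')) rfl
    · rintro ⟨x, hx⟩
      obtain ⟨c, hc, i, hi, rfl⟩ := h.decomp (mem_D.1 hqD).1 hqC (mem_D.1 hx).1
      have hcD : c ∈ D S u := by
        have := mul_mem hx (inv_mem (pow_mem hqD i))
        rwa [mul_inv_cancel_right] at this
      exact ⟨(⟨c, hcD, hc⟩, ⟨i, hi⟩), rfl⟩
  rw [← Nat.card_congr (Equiv.ofBijective f hf), Nat.card_prod, Nat.card_fin, mul_comm]

/-- The elements of `D` inverted by `u` form a subgroup of order `P`, and `D ∩ C(S)` commutes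
with `u`. -/
theorem D_structure : (∀ e ∈ D S u ⊓ C S, Commute e u) ∧
    Nat.card (Cfsg.invertedBy (D S u) u) = P := by
  have huu := H67.invol_sq hu
  have hodd : ∀ x ∈ D S u, Odd (orderOf x) := fun x hx => h.odd_D hu huN hx
  have hcard := H66.card_inverted_factor hodd huu (fun x hx => h.u_conj_D hu huN hx)
  set F := D S u ⊓ centralizer ({u} : Set G) with hF
  set E := D S u ⊓ C S with hE
  have hFE : F ≤ E := fun f hf =>
    ⟨hf.1, h.commuting_mem_C hu huN hf.1 (mem_centralizer_singleton_iff.1 hf.2)⟩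
  rw [h.card_D hu huN] at hcard
  have h1 := Subgroup.card_le_of_le hFE
  have h2 := h.card_inverted_le hu huN
  have hposE : 0 < Nat.card E := Nat.card_pos
  have hposF : 0 < Nat.card F := Nat.card_pos
  have hJ : Nat.card (Cfsg.invertedBy (D S u) u) = P := by nlinarith
  refine ⟨fun e he => ?_, hJ⟩
  rw [hJ, mul_comm] at hcard
  have hEF : F = E := eq_of_le_of_card_ge hFE
    (Nat.eq_of_mul_eq_mul_right h.prime.pos hcard).le
  rw [← hEF] at he
  exact mem_centralizer_singleton_iff.1 he.2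

theorem commute_u {e : G} (he : e ∈ D S u) (heC : e ∈ C S) : Commute e u :=
  (h.D_structure hu huN).1 e ⟨he, heC⟩

/-- An inverted element of order `P` generates the inverted elements. -/
theorem inverted_mem_zpowers {q x : G} (hq : q ∈ D S u) (hqP : orderOf q = P)
    (hinv : u * q * u⁻¹ = q⁻¹) (hx : x ∈ D S u) (hxi : u * x * u⁻¹ = x⁻¹) : x ∈ zpowers q := by
  have hsub : (zpowers q : Set G) ⊆ Cfsg.invertedBy (D S u) u := fun y hy =>
    ⟨(zpowers_le.2 hq) hy, H66.inverted_of_mem_zpowers hinv hy⟩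
  have hle : (Cfsg.invertedBy (D S u) u).ncard ≤ (zpowers q : Set G).ncard := by
    rw [← Nat.card_coe_set_eq, ← Nat.card_coe_set_eq, (h.D_structure hu huN).2]
    exact le_of_eq (by rw [← hqP, ← Nat.card_zpowers]; rfl)
  have he := Set.eq_of_subset_of_ncard_le hsub hle (Set.toFinite _)
  have : x ∈ Cfsg.invertedBy (D S u) u := ⟨hx, hxi⟩
  rwa [← he] at this

/-- `D = (D ∩ C(S)) × ⟨q⟩`, and every element of order `P` of `D` is inverted by `u`. -/
theorem orderP_props {x : G} (hx : x ∈ D S u) (hxP : orderOf x = P) :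
    u * x * u⁻¹ = x⁻¹ ∧ ∀ e ∈ D S u, e ∈ C S → Commute e x := by
  obtain ⟨q, hqD, hqC, hq, hinv⟩ := h.exists_inverted hu huN
  have hqN := (mem_D.1 hqD).1
  have key : ∀ e ∈ D S u, e ∈ C S → Commute e q := by
    intro e he heC
    have h1 : u * (e * q * e⁻¹) * u⁻¹ = (e * q * e⁻¹)⁻¹ :=
      (H66.conj_invertedBy_mem (X := D S u) he
        (by rw [← (h.commute_u hu huN he heC).eq, mul_inv_cancel_right]) ⟨hqD, hinv⟩).2
    obtain ⟨i, hi⟩ := mem_zpowers_iff.1 (h.inverted_mem_zpowers hu huN hqD hq hinv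
      (mul_mem (mul_mem he hqD) (inv_mem he)) h1)
    have h2 : q ^ (i - 1) ∈ C S := by
      rw [zpow_sub_one, hi]
      exact h.commutator_mem_C (h.C_le_N heC) hqN |> fun h3 => by
        simpa using (show e * q * e⁻¹ * q⁻¹ ∈ C S from by
          rw [show e * q * e⁻¹ * q⁻¹ = e * (q * e⁻¹ * q⁻¹) by group]
          exact mul_mem heC (h.conj_C hqN (inv_mem heC)))
    have h3 := (h.pow_mem_C_iff hqN hqC).1 h2
    rw [← hq, orderOf_dvd_iff_zpow_eq_one, zpow_sub_one, mul_inv_eq_one] at h3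
    rw [h3] at hi
    exact mul_inv_eq_iff_eq_mul.1 hi.symm
  obtain ⟨c, hc, i, -, rfl⟩ := h.decomp hqN hqC (mem_D.1 hx).1
  have hcD : c ∈ D S u := by
    have := mul_mem hx (inv_mem (pow_mem hqD i))
    rwa [mul_inv_cancel_right] at this
  have hcomm : Commute c (q ^ i) := (key c hcD hc).pow_right i
  have hc1 : c = 1 := by
    have h1 : c ^ P = 1 := by
      have := pow_orderOf_eq_one (c * q ^ i)
      rwa [hxP, hcomm.mul_pow, ← pow_mul, mul_comm i, pow_mul, ← hq, pow_orderOf_eq_one,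
        one_pow, mul_one, hq] at this
    by_contra hne
    haveI : Fact P.Prime := ⟨h.prime⟩
    exact h.orderOf_C_ne hc (orderOf_eq_prime h1 hne)
  subst hc1
  rw [one_mul] at hxP ⊢
  exact ⟨conj_pow_fixed hinv i, fun e he heC => (key e he heC).pow_right i⟩

end point

end Hyp

end H1.TIElem
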