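import Cfsg.Agent.H1.TIElem.Kernel
import Cfsg.Agent.H66.FeitPrimePow
import Cfsg.Agent.H5.Fusion
import Cfsg.Agent.H16.OddOrder
import Cfsg.Agent.H1.SchurZassenhausConj

/-!
Main theorem: `C(S)` is `S` times the centraliser in it of an element of order `P` of `N(S)`.
-/

set_option autoImplicit false
set_option linter.unusedSectionVars false
set_option linter.style.haveILetI false

namespace H1.TIElem

open Subgroup

universe u

/-- Every element of `C(S)` is an element of `S` times one commuting with a given element of order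
`P` of `N(S)`. -/
def Good {G : Type u} [Group G] (S : Subgroup G) (P : ℕ) : Prop :=
  ∀ q ∈ normalizer (S : Set G), orderOf q = P → ∀ c ∈ centralizer (S : Set G),
    ∃ s ∈ S, Commute (s * c) q

namespace Hyp

variable {G : Type u} [Group G] [Finite G] {S : Subgroup G} {P : ℕ} (h : Hyp S P)

include h

theorem good_of_one {q : G} (hqN : q ∈ N S) (hqP : orderOf q = P)
    (hgood : ∀ c ∈ C S, ∃ s ∈ S, Commute (s * c) q) : Good S P := by
  intro q' hq'N hq'P c hc
  obtain ⟨d, hd, m, hm⟩ := h.conj_orderP hq'N hqN hq'P hqP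
  obtain ⟨s, hs, hsc⟩ := hgood (d * c * d⁻¹) (mul_mem (mul_mem hd hc) (inv_mem hd))
  refine ⟨s, hs, ?_⟩
  have h1 : Commute (d * (s * c) * d⁻¹) (d * q' * d⁻¹) := by
    rw [hm, show d * (s * c) * d⁻¹ = (d * s) * c * d⁻¹ by group, h.comm_C hd hs,
      show s * d * c * d⁻¹ = s * (d * c * d⁻¹) by group]
    exact hsc.pow_right m
  have h1' := h1.eq
  show s * c * q' = q' * (s * c)
  calc s * c * q' = d⁻¹ * ((d * (s * c) * d⁻¹) * (d * q' * d⁻¹)) * d := by group
    _ = d⁻¹ * ((d * q' * d⁻¹) * (d * (s * c) * d⁻¹)) * d := by rw [h1']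
    _ = q' * (s * c) := by group

variable {u q : G} (hu : orderOf u = 2) (huN : u ∉ N S) (hq : q ∈ D S u) (hqP : orderOf q = P)

include hu huN hq hqP

theorem q_mem_normal (M : Subgroup G) [M.Normal] (huM : u ∈ M) : q ∈ M := by
  have hinv := (h.orderP_props hu huN hq hqP).1
  have h1 : u * (q * u⁻¹ * q⁻¹) ∈ M :=
    mul_mem huM (Normal.conj_mem inferInstance u⁻¹ (inv_mem huM) q)
  rw [← mul_assoc, ← mul_assoc, hinv, ← mul_inv_rev, inv_mem_iff, ← pow_two] at h1
  obtain ⟨k, hk⟩ := h.P_odd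
  have h3 : (q ^ 2) ^ (k + 1) = q := by
    rw [← pow_mul, show 2 * (k + 1) = P + 1 by omega, pow_succ, ← hqP, pow_orderOf_eq_one,
      one_mul]
  rw [← h3]
  exact pow_mem h1 _

/-- The fixed-point-free case. -/
theorem subset_S_of_trivial (htriv : ∀ c ∈ C S, Commute c q → c = 1) :
    ∀ c ∈ C S, c ∈ S := by
  classical
  haveI := Fintype.ofFinite (G ⧸ N S)
  have hqN := (mem_D.1 hq).1
  have huu := H67.invol_sq hu
  have hDC : ∀ i : G, orderOf i = 2 → i ∉ N S → ∀ x ∈ D S i, x ∈ C S → x = 1 := by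
    intro i hi hiN x hx hxC
    obtain ⟨c, hc, hm⟩ := h.C_transitive huN hiN
    have hxC' : c⁻¹ * x * c ∈ C S := mul_mem (mul_mem (inv_mem hc) hxC) hc
    have hD : c⁻¹ * x * c ∈ D S u := mem_D.2 ⟨h.C_le_N hxC', by
      rw [show u⁻¹ * (c⁻¹ * x * c) * u = (i⁻¹ * c * u)⁻¹ * (i⁻¹ * x * i) * (i⁻¹ * c * u) by group]
      exact mul_mem (mul_mem (inv_mem hm) (mem_D.1 hx).2) hm⟩
    have h1 := htriv _ hxC' (h.commute_of_D_C hu huN hq hqP hD hxC')
    calc x = c * (c⁻¹ * x * c) * c⁻¹ := by group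
      _ = 1 := by rw [h1]; group
  -- an element fixing three cosets is trivial
  have hthree : ∀ g ∈ N S, ∀ a b : G, a ∉ N S → b ∉ N S → a⁻¹ * b ∉ N S → a⁻¹ * g * a ∈ N S →
      b⁻¹ * g * b ∈ N S → g = 1 := by
    intro g hgN a b ha hb hab hga hgb
    obtain ⟨i, hi, hiN, hai⟩ := h.exists_invol_coset ha
    have hgD : g ∈ D S i := mem_D.2 ⟨hgN, by
      rw [show i⁻¹ * g * i = (a⁻¹ * i)⁻¹ * (a⁻¹ * g * a) * (a⁻¹ * i) by group]
      exact mul_mem (mul_mem (inv_mem hai) hga) hai⟩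
    have hgP : g ^ P = 1 := hDC i hi hiN _ (pow_mem hgD P) (h.pow_mem_C hgN)
    by_contra hne
    haveI : Fact P.Prime := ⟨h.prime⟩
    exact hab (h.fixes_two hgN (orderOf_eq_prime hgP hne) ha hb hga hgb)
  have hfix : ∀ g : G, ∀ a b c : G ⧸ N S, a ≠ b → b ≠ c → a ≠ c → g • a = a → g • b = b →
      g • c = c → g = 1 := by
    intro g a b c hab hbc hac ha hb hc
    obtain ⟨a, rfl⟩ := QuotientGroup.mk_surjective a
    obtain ⟨b, rfl⟩ := QuotientGroup.mk_surjective b
    obtain ⟨c, rfl⟩ := QuotientGroup.mk_surjective c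
    rw [H65.smul_coset_eq_iff] at ha hb hc
    have h1 := hthree (a⁻¹ * g * a) ha (a⁻¹ * b) (a⁻¹ * c)
      (fun hm => hab (QuotientGroup.eq.2 hm)) (fun hm => hac (QuotientGroup.eq.2 hm))
      (fun hm => hbc (QuotientGroup.eq.2 (by
        rwa [show (a⁻¹ * b)⁻¹ * (a⁻¹ * c) = b⁻¹ * c by group] at hm)))
      (by rwa [show (a⁻¹ * b)⁻¹ * (a⁻¹ * g * a) * (a⁻¹ * b) = b⁻¹ * g * b by group])
      (by rwa [show (a⁻¹ * c)⁻¹ * (a⁻¹ * g * a) * (a⁻¹ * c) = c⁻¹ * g * c by group])
    calc g = a * (a⁻¹ * g * a) * a⁻¹ := by group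
      _ = 1 := by rw [h1]; group
  -- three distinct cosets
  have hu1 : (QuotientGroup.mk u : G ⧸ N S) ≠ QuotientGroup.mk 1 := fun e => huN (by
    simpa using QuotientGroup.eq.1 e)
  obtain ⟨s₀, hs₀, hs₀1⟩ := h.exists_mem_ne_one
  have hsu : (QuotientGroup.mk (s₀ * u) : G ⧸ N S) ≠ QuotientGroup.mk 1 := fun e =>
    h.base_not_mem hu huN hq hqP hs₀ (by simpa using QuotientGroup.eq.1 e.symm)
  have hsu2 : (QuotientGroup.mk u : G ⧸ N S) ≠ QuotientGroup.mk (s₀ * u) := fun e => hs₀1 (by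
    exact (h.base_inj hu huN hq hqP (one_mem S) hs₀ (by rw [one_mul]; exact QuotientGroup.eq.1 e)).symm)
  -- simplicity
  have hnorm : ∀ M : Subgroup G, M.Normal → M ≠ ⊥ → M = ⊤ := by
    intro M hM hM1
    haveI := hM
    have heven : Even (Nat.card M) := by
      by_contra hodd
      rw [Nat.not_even_iff_odd] at hodd
      obtain ⟨t, ht, ht1, hts⟩ : ∃ t ∈ S, t ≠ 1 ∧ t ≠ s₀ := by
        obtain ⟨d, -, hd⟩ := h.exists_conj_eq_mul hqN hqP hs₀
        refine ⟨q * s₀ * q⁻¹, h.conj_S hqN hs₀, fun e => hs₀1 (conj_eq_one_iff.1 e), fun e => ?_⟩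
        exact h.not_commute_P hqP (h.orderOf_mem hs₀ hs₀1) (mul_inv_eq_iff_eq_mul.1 e)
      have hcase : ∀ x ∈ S, x ≠ 1 → ∀ m ∈ M, Commute m x → m ∈ C S := fun x hx hx1 m _ hm =>
        h.cent x hx hx1 m hm
      have hle : M ≤ C S := H66.le_of_centralizers_fourGroup
        (H66.odd_orderOf_of_mem_odd_card hodd) (h.sq s₀ hs₀) (h.sq t ht) (h.comm_S hs₀ ht)
        (fun m hm => hM.conj_mem m hm s₀) (fun m hm => hM.conj_mem m hm t)
        (hcase s₀ hs₀ hs₀1) (hcase t ht ht1) (hcase (s₀ * t) (mul_mem hs₀ ht) fun e => hts (by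
          rw [eq_inv_of_mul_eq_one_right e, h.inv_eq_self hs₀]))
      refine hM1 ((eq_bot_iff_forall M).2 fun m hm => ?_)
      refine hfix m _ _ _ hu1 hsu.symm hsu2 ?_ ?_ ?_
      all_goals
        rw [H65.smul_coset_eq_iff]
        exact h.C_le_N (hle (hM.conj_mem' m hm _))
    obtain ⟨t, htM, ht⟩ := H65.exists_two_mem heven
    have hinv : ∀ s : G, orderOf s = 2 → s ∈ M := fun s hs => by
      obtain ⟨c, rfl⟩ := isConj_iff.1 (H67.se_isConj h.stronglyEmbedded ht hs)
      exact hM.conj_mem t htM c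
    have hqM : q ∈ M := h.q_mem_normal hu huN hq hqP M (hinv u hu)
    have hCM : C S ≤ M := by
      let f : C S → C S := fun c => ⟨(c : G) * (q * (c : G)⁻¹ * q⁻¹),
        mul_mem c.2 (h.conj_C hqN (inv_mem c.2))⟩
      have hf : Function.Injective f := by
        intro a b e
        have e' : (a : G) * (q * (a : G)⁻¹ * q⁻¹) = (b : G) * (q * (b : G)⁻¹ * q⁻¹) :=
          congrArg Subtype.val e
        refine Subtype.ext (inv_mul_eq_one.1 (htriv ((b : G)⁻¹ * a)
          (mul_mem (inv_mem b.2) a.2) ?_)).symm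
        show (b : G)⁻¹ * a * q = q * ((b : G)⁻¹ * a)
        calc (b : G)⁻¹ * a * q
            = (b : G)⁻¹ * ((a : G) * (q * (a : G)⁻¹ * q⁻¹)) * q * a := by group
          _ = (b : G)⁻¹ * ((b : G) * (q * (b : G)⁻¹ * q⁻¹)) * q * a := by rw [e']
          _ = q * ((b : G)⁻¹ * a) := by group
      intro c hc
      obtain ⟨d, hd⟩ := (Finite.injective_iff_surjective.1 hf) ⟨c, hc⟩
      have h1 : (d : G) * (q * (d : G)⁻¹ * q⁻¹) = c := congrArg Subtype.val hd
      rw [← h1, show (d : G) * (q * (d : G)⁻¹ * q⁻¹) = (d : G) * q * (d : G)⁻¹ * q⁻¹ by group]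
      exact mul_mem (hM.conj_mem q hqM d) (inv_mem hqM)
    have hNM : ∀ g ∈ N S, g ∈ M := fun g hg => by
      obtain ⟨c, hc, i, -, rfl⟩ := h.decomp hqN (h.not_mem_C hqP) hg
      exact mul_mem (hCM hc) (pow_mem hqM i)
    refine eq_top_iff.2 fun g _ => ?_
    by_cases hg : g ∈ N S
    · exact hNM g hg
    obtain ⟨c, hc, hm⟩ := h.C_transitive huN hg
    rw [show g = c * u * (g⁻¹ * c * u)⁻¹ by group]
    exact mul_mem (mul_mem (hCM hc) (hinv u hu)) (inv_mem (hNM _ hm))
  haveI : Nontrivial G := ⟨u, 1, fun e => by rw [e, orderOf_one] at hu; omega⟩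
  haveI : IsSimpleGroup G := ⟨fun M hM => or_iff_not_imp_left.2 fun hne => hnorm M hM hne⟩
  have hfaith : FaithfulSMul G (G ⧸ N S) := ⟨fun {a b} hab => inv_mul_eq_one.1
    (hfix (a⁻¹ * b) _ _ _ hu1 hsu.symm hsu2 (by rw [mul_smul, ← hab, inv_smul_smul])
      (by rw [mul_smul, ← hab, inv_smul_smul]) (by rw [mul_smul, ← hab, inv_smul_smul]))⟩
  have htwo : MulAction.IsMultiplyPretransitive G (G ⧸ N S) 2 := by
    rw [MulAction.is_two_pretransitive_iff]
    have key : ∀ a b : G ⧸ N S, a ≠ b →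
        ∃ g : G, g • (QuotientGroup.mk 1 : G ⧸ N S) = a ∧ g • QuotientGroup.mk u = b := by
      intro a b hab
      obtain ⟨a, rfl⟩ := QuotientGroup.mk_surjective a
      obtain ⟨b, rfl⟩ := QuotientGroup.mk_surjective b
      obtain ⟨c, hc, hm⟩ := h.C_transitive huN (b := a⁻¹ * b)
        (fun hm => hab (QuotientGroup.eq.2 hm))
      refine ⟨a * c, ?_, ?_⟩
      · rw [MulAction.Quotient.smul_coe, smul_eq_mul, mul_one, QuotientGroup.eq,
          show (a * c)⁻¹ * a = c⁻¹ by group]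
        exact inv_mem (h.C_le_N hc)
      · rw [MulAction.Quotient.smul_coe, smul_eq_mul, QuotientGroup.eq,
          show (a * c * u)⁻¹ * b = ((a⁻¹ * b)⁻¹ * c * u)⁻¹ by group]
        exact inv_mem hm
    intro a b c d hab hcd
    obtain ⟨g, hg1, hg2⟩ := key a b hab
    obtain ⟨k, hk1, hk2⟩ := key c d hcd
    exact ⟨k * g⁻¹, by rw [mul_smul, ← hg1, inv_smul_smul, hk1],
      by rw [mul_smul, ← hg2, inv_smul_smul, hk2]⟩
  have hZ : Cfsg.IsZassenhausGroup G (G ⧸ N S) := by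
    refine ⟨hfaith, htwo, hfix, ⟨q, fun e => h.not_mem_C hqP (e ▸ one_mem _), QuotientGroup.mk 1,
      QuotientGroup.mk u, hu1.symm, H65.smul_coset_eq_iff.2 (by simpa using hqN),
      H65.smul_coset_eq_iff.2 (mem_D.1 hq).2⟩, fun M hM hMt => ?_⟩
    rcases hM.eq_bot_or_eq_top with rfl | rfl
    · obtain ⟨k, hk⟩ := hMt.exists_smul_eq (QuotientGroup.mk 1) (QuotientGroup.mk u)
      obtain rfl : k = 1 := Subsingleton.elim _ _
      exact absurd ((one_smul _ _).symm.trans hk) hu1.symm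
    · refine ⟨QuotientGroup.mk 1, fun e => hs₀1 ?_⟩
      have h1 : (⟨s₀, mem_top s₀⟩ : (⊤ : Subgroup G)) ∈ MulAction.stabilizer (⊤ : Subgroup G)
          (QuotientGroup.mk 1 : G ⧸ N S) := by
        rw [MulAction.mem_stabilizer_iff]
        exact H65.smul_coset_eq_iff.2 (by simpa using h.S_le_N hs₀)
      exact congrArg Subtype.val ((eq_bot_iff_forall _).1 e _ h1)
  have hpp := H66.Feit.isPrimePow_degree hZ
  have hDbot : D S u ⊓ C S = ⊥ := (eq_bot_iff_forall _).2 fun x hx => hDC u hu huN x hx.1 hx.2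
  rw [← Nat.card_eq_fintype_card, ← index_eq_card, h.index_N hu huN, hDbot, relIndex_bot_left,
    Nat.add_sub_cancel_left] at hpp
  obtain ⟨p, k, hp, -, hpk⟩ := (isPrimePow_nat_iff _).1 hpp
  have hp2 : p = 2 := by
    have h2 : 2 ∣ Nat.card (C S) := by
      rw [← h.orderOf_mem hs₀ hs₀1, ← Subgroup.orderOf_mk (H := C S) s₀ (h.S_le_C hs₀)]
      exact orderOf_dvd_natCard _
    rw [← hpk] at h2
    exact ((Nat.prime_dvd_prime_iff_eq Nat.prime_two hp).1 (Nat.prime_two.dvd_of_dvd_pow h2)).symm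
  subst hp2
  intro c hc
  refine h.mem_S_of_two_pow (h.C_le_N hc) (k := k) ?_
  rw [hpk]
  exact orderOf_dvd_iff_pow_eq_one.1 (by
    rw [← Subgroup.orderOf_mk (H := C S) c hc]; exact orderOf_dvd_natCard _)

/-- The case with a non-trivial `E`. -/
theorem good_of_transfer (hcc : CentCond S q) {e : G} (he : e ∈ C S) (heq : Commute e q)
    (he1 : e ≠ 1)
    (ih : ∀ M : Subgroup G, M ≠ ⊤ → Hyp (S.subgroupOf M) P → Good (S.subgroupOf M) P) :
    ∀ c ∈ C S, ∃ s ∈ S, Commute (s * c) q := by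
  classical
  set E := C S ⊓ centralizer {q} with hE
  have memE : ∀ {x : G}, x ∈ E ↔ x ∈ C S ∧ Commute x q := fun {x} =>
    ⟨fun hx => ⟨hx.1, mem_centralizer_singleton_iff.1 hx.2⟩,
      fun hx => ⟨hx.1, mem_centralizer_singleton_iff.2 hx.2⟩⟩
  have hEodd : Odd (Nat.card E) := by
    by_contra heven
    rw [Nat.not_odd_iff_even] at heven
    obtain ⟨t, ht, ht2⟩ := H65.exists_two_mem heven
    have := h.odd_of_E hu huN hq hqP (memE.1 ht).1 (memE.1 ht).2
    rw [ht2] at this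
    exact absurd this (by decide)
  haveI : Group.IsSolvable E := H16.FT.oddOrder hEodd
  haveI : Nontrivial E := ⟨⟨e, memE.2 ⟨he, heq⟩⟩, 1, fun e' => he1 (congrArg Subtype.val e')⟩
  obtain ⟨E₁, r, hr, hE₁, hE₁i⟩ := H1.exists_normal_index_prime E
  haveI : Fact r.Prime := ⟨hr⟩
  have hrE : r ∣ Nat.card E := by rw [← hE₁i]; exact index_dvd_card E₁
  have hr2 : r ≠ 2 := fun e2 => by
    have := hEodd.of_dvd_nat hrE
    rw [e2] at this; exact absurd this (by decide)
  obtain ⟨⟨x₀, hx₀⟩, hx₀o⟩ := exists_prime_orderOf_dvd_card' (G := E) r hrE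
  rw [Subgroup.orderOf_mk] at hx₀o
  have hnd : ¬ r ∣ P + 2 :=
    h.not_dvd_add_two hu huN hq hqP hcc (memE.1 hx₀).1 (memE.1 hx₀).2 hr hx₀o
  let X' : Sylow r E := default
  set X : Subgroup G := (X' : Subgroup E).map E.subtype with hX
  have hXE : X ≤ E := map_subtype_le _
  have hXp : IsPGroup r X := X'.isPGroup'.map _
  have hcardX : Nat.card X = Nat.card (X' : Subgroup E) :=
    card_map_of_injective E.subtype_injective
  have hX1 : X ≠ ⊥ := by
    intro eX
    rw [eX, card_bot] at hcardX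
    have h1 := X'.dvd_card_of_dvd_card hrE
    rw [← hcardX] at h1
    exact hr.ne_one (Nat.dvd_one.1 h1)
  -- counting fixed points
  have hfixed := h.card_fixedPoints hu huN hq hqP hcc (fun x hx => (memE.1 (hXE hx)).1)
    (fun x hx => (memE.1 (hXE hx)).2) hX1
  have hmod := hXp.card_modEq_card_fixedPoints (G ⧸ N S)
  rw [hfixed, ← index_eq_card] at hmod
  have hΩ : ¬ r ∣ (N S).index := fun hd => hnd
    (Nat.modEq_zero_iff_dvd.1 (hmod.symm.trans (Nat.modEq_zero_iff_dvd.2 hd)))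
  have hEeq : D S u ⊓ C S = E := by
    ext x
    exact (h.mem_E_iff hu huN hq hqP).symm
  have hCE : ¬ r ∣ E.relIndex (C S) := by
    intro hd
    rw [h.index_N hu huN, hEeq] at hmod
    have h1 : 1 ≡ P + 2 [MOD r] := ((Nat.modEq_zero_iff_dvd.2 hd).add_left 1).symm.trans hmod
    have h2 : r ∣ P + 1 := by
      have := (Nat.modEq_iff_dvd' (by omega)).1 h1
      simpa using this
    rw [← h.card_S] at h2
    obtain ⟨⟨z, hz⟩, hzo⟩ := exists_prime_orderOf_dvd_card' (G := S) r h2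
    rw [Subgroup.orderOf_mk] at hzo
    have hz1 : z ≠ 1 := fun e1 => by rw [e1, orderOf_one] at hzo; exact hr.ne_one hzo.symm
    exact hr2 (hzo.symm.trans (h.orderOf_mem hz hz1))
  have hrP : ¬ r ∣ P := fun hd => h.orderOf_C_ne (memE.1 hx₀).1
    (hx₀o.trans ((Nat.prime_dvd_prime_iff_eq hr h.prime).1 hd))
  have hindX : ¬ r ∣ X.index := by
    rw [← relIndex_mul_index hXE, ← relIndex_mul_index (show E ≤ C S from inf_le_left),
      ← relIndex_mul_index h.C_le_N]
    intro hd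
    have hCN : (C S).relIndex (N S) = P := by
      have h1 := ((C S).subgroupOf (N S)).index_mul_card
      rw [Nat.card_congr (subgroupOfEquivOfLe h.C_le_N).toEquiv, h.card_N] at h1
      exact Nat.eq_of_mul_eq_mul_right Nat.card_pos h1
    rw [hCN] at hd
    have hXE' : X.relIndex E = (X' : Subgroup E).index := by
      rw [relIndex, hX, subgroupOf, comap_map_eq_self_of_injective E.subtype_injective]
    rw [hXE'] at hd
    rcases hr.dvd_mul.1 hd with h1 | h1
    · exact X'.not_dvd_index h1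
    rcases hr.dvd_mul.1 h1 with h2 | h2
    · exact hCE h2
    rcases hr.dvd_mul.1 h2 with h3 | h3
    · exact hrP h3
    · exact hΩ h3
  -- `E` controls fusion in `X`
  have hcontrol : ∀ x ∈ X, ∀ g : G, g * x * g⁻¹ ∈ X → ∃ k ∈ E, k * x * k⁻¹ = g * x * g⁻¹ := by
    intro x hx g hgx
    by_cases hx1 : x = 1
    · exact ⟨1, one_mem _, by rw [hx1]; group⟩
    obtain ⟨hxC, hxq⟩ := memE.1 (hXE hx)
    have hnear : ∀ g ∈ N S, g * x * g⁻¹ ∈ X → ∃ k ∈ E, k * x * k⁻¹ = g * x * g⁻¹ := by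
      intro g hg hgx
      obtain ⟨c, hc, i, -, rfl⟩ := h.decomp (mem_D.1 hq).1 (h.not_mem_C hqP) hg
      have hcx : c * q ^ i * x * (c * q ^ i)⁻¹ = c * x * c⁻¹ := by
        calc c * q ^ i * x * (c * q ^ i)⁻¹ = c * (q ^ i * x) * (q ^ i)⁻¹ * c⁻¹ := by group
          _ = c * x * c⁻¹ := by rw [← (hxq.pow_right i).eq]; group
      rw [hcx] at hgx ⊢
      obtain ⟨s, hs, hsc⟩ := h.malnormal hu huN hq hqP hcc hxC hxq hx1 hc (memE.1 (hXE hgx)).2
      refine ⟨s * c, memE.2 ⟨mul_mem (h.S_le_C hs) hc, hsc⟩, ?_⟩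
      calc s * c * x * (s * c)⁻¹ = s * (c * x * c⁻¹) * s⁻¹ := by group
        _ = c * x * c⁻¹ := by rw [← h.comm_C (memE.1 (hXE hgx)).1 hs, mul_inv_cancel_right]
    by_cases hg : g ∈ N S
    · exact hnear g hg hgx
    obtain ⟨hgC, hgq⟩ := memE.1 (hXE hgx)
    obtain ⟨s, hs, hm⟩ := h.fixed_point hu huN hq hqP hcc hgC hgq
      (fun e1 => hx1 (conj_eq_one_iff.1 e1)) hg (by
        rw [show g⁻¹ * (g * x * g⁻¹) * g = x by group]; exact h.C_le_N hxC)
    have hcomm : Commute (g * x * g⁻¹) (s * u) :=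
      (show Commute (g * x * g⁻¹) s from h.comm_C hgC hs).mul_right
        (h.commute_u_of_E hu huN hq hqP hgC hgq)
    have hg' : ((s * u)⁻¹ * g) * x * ((s * u)⁻¹ * g)⁻¹ = g * x * g⁻¹ := by
      calc ((s * u)⁻¹ * g) * x * ((s * u)⁻¹ * g)⁻¹
          = (s * u)⁻¹ * ((g * x * g⁻¹) * (s * u)) := by group
        _ = g * x * g⁻¹ := by rw [hcomm.eq, inv_mul_cancel_left]
    obtain ⟨k, hk, hk'⟩ := hnear _ hm (by rw [hg']; exact hgx)
    exact ⟨k, hk, hk'.trans hg'⟩
  have hHall : Nat.Coprime (Nat.card X) X.index := by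
    obtain ⟨k, hk⟩ := IsPGroup.iff_card.1 hXp
    rw [hk]
    exact ((Nat.Prime.coprime_iff_not_dvd hr).2 hindX).pow_left k
  have hfoc := H5.commutator_inf_eq_of_control hHall hXE hcontrol
  -- `X` is not contained in the derived group
  have hXnot : ¬ X ≤ commutator G := by
    intro hle
    have h1 : X ≤ ⁅E, E⁆ := fun x hx => ((le_of_eq hfoc) (⟨hle hx, hx⟩ : x ∈ commutator G ⊓ X)).1
    haveI := hE₁
    have h2 : commutator E ≤ E₁ := by
      haveI : IsCyclic (E ⧸ E₁) :=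
        isCyclic_of_prime_card (p := r) (by rw [← index_eq_card]; exact hE₁i)
      exact Normal.quotient_commutative_iff_commutator_le.1 inferInstance
    have h3 : (X' : Subgroup E) ≤ E₁ := fun x hx => by
      have h4 : (x : G) ∈ ⁅E, E⁆ := h1 ⟨x, hx, rfl⟩
      rw [← map_subtype_commutator] at h4
      obtain ⟨y, hy, hyx⟩ := h4
      exact h2 (Subtype.ext hyx ▸ hy)
    have h5 := index_dvd_of_le h3
    rw [hE₁i] at h5
    exact X'.not_dvd_index h5
  -- a proper normal subgroup containing all `r'`-elements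
  let A := Abelianization G
  obtain ⟨a, m, hm, hAn⟩ :=
    Nat.exists_eq_pow_mul_and_not_dvd (Nat.card_pos (α := A)).ne' r hr.ne_one
  set M : Subgroup G :=
    (powMonoidHom m : A →* A).ker.comap Abelianization.of with hM
  have memM : ∀ {g : G}, g ∈ M ↔ (Abelianization.of g : A) ^ m = 1 := Iff.rfl
  have hMprime : ∀ g : G, ¬ r ∣ orderOf g → g ∈ M := by
    intro g hg
    rw [memM, ← orderOf_dvd_iff_pow_eq_one]
    have h1 : orderOf (Abelianization.of g : A) ∣ Nat.card A := orderOf_dvd_natCard _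
    have h2 : orderOf (Abelianization.of g : A) ∣ orderOf g :=
      orderOf_map_dvd (Abelianization.of (G := G)) g
    rw [hAn] at h1
    exact ((Nat.Coprime.pow_left a ((Nat.Prime.coprime_iff_not_dvd hr).2
      (fun hh => hg (hh.trans h2)))).symm).dvd_of_dvd_mul_left h1
  have hMtop : M ≠ ⊤ := by
    intro htop
    obtain ⟨x, hx, hxG⟩ := SetLike.not_le_iff_exists.1 hXnot
    obtain ⟨k, hk⟩ := hXp ⟨x, hx⟩
    have h1 : orderOf (Abelianization.of x : A) ∣ r ^ k := by
      refine orderOf_dvd_of_pow_eq_one ?_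
      rw [← map_pow, show x ^ r ^ k = 1 from congrArg Subtype.val hk, map_one]
    have h2 : orderOf (Abelianization.of x : A) ∣ m :=
      orderOf_dvd_iff_pow_eq_one.2 (memM.1 (htop ▸ mem_top x))
    have h3 : orderOf (Abelianization.of x : A) = 1 :=
      Nat.eq_one_of_dvd_coprimes (((Nat.Prime.coprime_iff_not_dvd hr).2 hm).pow_left k) h1 h2
    exact hxG ((QuotientGroup.eq_one_iff x).1 (orderOf_eq_one_iff.1 h3))
  have hSM : S ≤ M := fun s hs => hMprime s fun hd => by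
    by_cases hs1 : s = 1
    · rw [hs1, orderOf_one] at hd; exact hr.ne_one (Nat.dvd_one.1 hd)
    · rw [h.orderOf_mem hs hs1] at hd
      exact hr2 ((Nat.prime_dvd_prime_iff_eq hr Nat.prime_two).1 hd)
  have huM : u ∈ M := hMprime u fun hd => by
    rw [hu] at hd
    exact hr2 ((Nat.prime_dvd_prime_iff_eq hr Nat.prime_two).1 hd)
  have hqM : q ∈ M := hMprime q (by rw [hqP]; exact hrP)
  have hgM := ih M hMtop (h.subgroup hSM huM huN hqM (mem_D.1 hq).1 hqP)
  -- `C(S) = (C(S) ∩ M) X`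
  have hCX : C S ≤ (C S ⊓ M) ⊔ X := by
    set K := (C S ⊓ M) ⊔ X with hK
    have hKC : K ≤ C S := sup_le inf_le_left (hXE.trans inf_le_left)
    have h1 : K.relIndex (C S) = 1 := by
      by_contra hne
      obtain ⟨p, hp, hpd⟩ := Nat.exists_prime_and_dvd hne
      haveI : Fact p.Prime := ⟨hp⟩
      by_cases hpr : p = r
      · subst hpr
        have h3 : K.relIndex (C S) ∣ X.relIndex (C S) :=
          relIndex_dvd_of_le_left (C S) le_sup_right
        have h4 : X.relIndex (C S) ∣ X.index := ⟨(C S).index, (relIndex_mul_index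
          (show X ≤ C S from hXE.trans inf_le_left)).symm⟩
        exact hindX (hpd.trans (h3.trans h4))
      · have h3 : K.relIndex (C S) ∣ (C S ⊓ M).relIndex (C S) :=
          relIndex_dvd_of_le_left (C S) le_sup_left
        rw [inf_relIndex_left] at h3
        have h4 : M.relIndex (C S) ∣ M.index := relIndex_dvd_index_of_normal M (C S)
        have h5 : p ∣ M.index := hpd.trans (h3.trans h4)
        rw [index_eq_card] at h5
        obtain ⟨y, hy⟩ := exists_prime_orderOf_dvd_card' p h5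
        obtain ⟨g, rfl⟩ := QuotientGroup.mk'_surjective M y
        obtain ⟨b, n, hn, hgn⟩ :=
          Nat.exists_eq_pow_mul_and_not_dvd (orderOf_pos g).ne' p hp.ne_one
        have hgnM : g ^ n ∈ M := hMprime _ fun hd => hpr (by
          have h6 : (g ^ n) ^ p ^ b = 1 := by rw [← pow_mul, mul_comm, ← hgn, pow_orderOf_eq_one]
          exact ((Nat.prime_dvd_prime_iff_eq hr hp).1
            (hr.dvd_of_dvd_pow (hd.trans (orderOf_dvd_of_pow_eq_one h6)))).symm)
        have h7 : (QuotientGroup.mk' M g) ^ n = 1 := by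
          rw [← map_pow]; exact (QuotientGroup.eq_one_iff _).2 hgnM
        rw [← orderOf_dvd_iff_pow_eq_one, hy] at h7
        exact hn h7
    exact relIndex_eq_one.1 h1
  intro c hc
  have hEn : E ≤ normalizer (S : Set G) := inf_le_left.trans h.C_le_N
  have hle : C S ≤ S ⊔ E := by
    refine hCX.trans (sup_le ?_ (hXE.trans le_sup_right))
    rintro d ⟨hd, hdM⟩
    obtain ⟨s, hs, hsc⟩ := hgM ⟨q, hqM⟩ ((mem_normalizer_subgroupOf hSM).2 (mem_D.1 hq).1)
      (by rw [Subgroup.orderOf_mk]; exact hqP) ⟨d, hdM⟩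
      ((mem_centralizer_subgroupOf hSM).2 hd)
    have hs' : (s : G) ∈ S := mem_subgroupOf.1 hs
    rw [show d = (s : G)⁻¹ * ((s : G) * d) by group]
    exact mul_mem (mem_sup_left (inv_mem hs'))
      (mem_sup_right (memE.2 ⟨mul_mem (h.S_le_C hs') hd, congrArg Subtype.val hsc.eq⟩))
  have h1 : c ∈ ((S ⊔ E : Subgroup G) : Set G) := hle hc
  rw [Subgroup.coe_mul_of_right_le_normalizer_left S E hEn] at h1
  obtain ⟨s, hs, f, hf, rfl⟩ := h1
  refine ⟨s, hs, ?_⟩
  rw [← mul_assoc, h.sq s hs, one_mul]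
  exact (memE.1 hf).2

end Hyp

theorem good_aux (n : ℕ) : ∀ (G : Type u) [Group G] [Finite G] (S : Subgroup G) (P : ℕ),
    Nat.card G = n → Hyp S P → Good S P := by
  induction n using Nat.strong_induction_on with
  | _ n ih =>
  intro G _ _ S P hn h
  classical
  obtain ⟨u, hu, huN⟩ := h.exists_invol_not_mem
  obtain ⟨q, hqD, -, hqP, -⟩ := h.exists_inverted hu huN
  have hqN := (Hyp.mem_D.1 hqD).1
  refine h.good_of_one hqN hqP ?_
  have ihM : ∀ M : Subgroup G, M ≠ ⊤ → Hyp (S.subgroupOf M) P → Good (S.subgroupOf M) P := by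
    intro M hM hh
    refine ih (Nat.card M) ?_ M _ P rfl hh
    rw [← hn]
    exact lt_of_le_of_ne (Subgroup.card_le_card_group M) fun e => hM (eq_top_of_card_eq M e)
  by_cases hcen : ∃ x ∈ Hyp.C S, Commute x q ∧ x ≠ 1 ∧ ∀ g, Commute g x
  · obtain ⟨x, hxC, hxq, hx1, hxZ⟩ := hcen
    obtain ⟨r, hr, hrd⟩ := Nat.exists_prime_and_dvd (fun e => hx1 (orderOf_eq_one_iff.1 e))
    have hxodd := h.odd_of_E hu huN hqD hqP hxC hxq
    have hr2 : r ≠ 2 := fun e2 => by
      have := hxodd.of_dvd_nat hrd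
      rw [e2] at this; exact absurd this (by decide)
    obtain ⟨k, hk⟩ := Hyp.exists_pow_orderOf_eq hrd
    set z := x ^ k with hz
    have hzC : z ∈ Hyp.C S := pow_mem hxC k
    have hzZ : ∀ g, Commute g z := fun g => (hxZ g).pow_right k
    haveI : (zpowers z).Normal := ⟨fun a ha g => by
      obtain ⟨i, rfl⟩ := mem_zpowers_iff.1 ha
      rw [((hzZ g).zpow_right i).eq, mul_inv_cancel_right]
      exact zpow_mem (mem_zpowers z) i⟩
    have hbar := h.quotient hr hr2 hk hzC hzZ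
    have hgood := ih (Nat.card (G ⧸ zpowers z)) (by
      rw [← hn, Subgroup.card_eq_card_quotient_mul_card_subgroup (zpowers z)]
      exact lt_mul_of_one_lt_right Nat.card_pos (by rw [Nat.card_zpowers, hk]; exact hr.one_lt))
      _ _ P rfl hbar
    intro c hc
    set π := QuotientGroup.mk' (zpowers z) with hπ
    have hπq : orderOf (π q) = P := by
      haveI : Fact P.Prime := ⟨h.prime⟩
      refine orderOf_eq_prime (by rw [← map_pow, ← hqP, pow_orderOf_eq_one, map_one]) fun e => ?_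
      have h1 : q ∈ zpowers z := (QuotientGroup.eq_one_iff q).1 e
      exact h.not_mem_C hqP (zpowers_le.2 hzC h1)
    have hqbar : π q ∈ normalizer ((S.map π : Subgroup _) : Set (G ⧸ zpowers z)) :=
      Subgroup.le_normalizer_map π ⟨q, hqN, rfl⟩
    have hcbar : π c ∈ centralizer ((S.map π : Subgroup _) : Set (G ⧸ zpowers z)) := by
      refine mem_centralizer_iff.2 ?_
      rintro _ ⟨s, hs, rfl⟩
      rw [← map_mul, ← map_mul, h.comm_C hc hs]
    obtain ⟨sb, ⟨s, hs, rfl⟩, hsc⟩ := hgood (π q) hqbar hπq (π c) hcbar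
    refine ⟨s, hs, ?_⟩
    rw [← map_mul] at hsc
    have e : π ((s * c) * q * (s * c)⁻¹) = π q := by
      rw [map_mul, map_mul, map_inv, hsc.eq, mul_inv_cancel_right]
    obtain ⟨w, hw, e'⟩ := (QuotientGroup.mk'_eq_mk' _).1 e
    obtain ⟨i, hi⟩ := mem_zpowers_iff.1 hw
    have hw1 : w = 1 := by
      have h3 : w ^ r = 1 := by
        rw [← hi, ← zpow_natCast, ← zpow_mul, mul_comm, zpow_mul, zpow_natCast, ← hk,
          pow_orderOf_eq_one, one_zpow]
      have hgw : Commute ((s * c) * q * (s * c)⁻¹) w := by rw [← hi]; exact (hzZ _).zpow_right i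
      have h4 : w ^ P = 1 := by
        have h5 : ((s * c) * q * (s * c)⁻¹) ^ P = 1 := by
          rw [conj_pow, ← hqP, pow_orderOf_eq_one]; group
        have h6 : q ^ P = 1 := by rw [← hqP, pow_orderOf_eq_one]
        rw [← e', hgw.mul_pow, h5, one_mul] at h6
        exact h6
      have h7 := pow_gcd_eq_one.2 ⟨h3, h4⟩
      have hrP : r ≠ P := fun e2 => h.orderOf_C_ne hzC (hk.trans e2)
      rwa [(Nat.coprime_primes hr h.prime).2 hrP, pow_one] at h7
    rw [hw1, mul_one] at e'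
    exact mul_inv_eq_iff_eq_mul.1 e'
  push Not at hcen
  have hcc : Hyp.CentCond S q := by
    intro x hxC hxq hx1 c hc hcx
    obtain ⟨g, hg⟩ := hcen x hxC hxq hx1
    set M := centralizer ({x} : Set G) with hM
    have memM : ∀ {g : G}, g ∈ M ↔ Commute g x := mem_centralizer_singleton_iff
    have hMt : M ≠ ⊤ := fun e => hg (memM.1 (e ▸ mem_top g))
    have hSM : S ≤ M := fun s hs => memM.2 (h.comm_C hxC hs).symm
    have huM : u ∈ M := memM.2 (h.commute_u_of_E hu huN hqD hqP hxC hxq).symm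
    have hqM : q ∈ M := memM.2 hxq.symm
    obtain ⟨s, hs, hsc⟩ := ihM M hMt (h.subgroup hSM huM huN hqM hqN hqP) ⟨q, hqM⟩
      ((Hyp.mem_normalizer_subgroupOf hSM).2 hqN) (by rw [Subgroup.orderOf_mk]; exact hqP)
      ⟨c, memM.2 hcx⟩ ((Hyp.mem_centralizer_subgroupOf hSM).2 hc)
    exact ⟨s, mem_subgroupOf.1 hs, congrArg Subtype.val hsc.eq⟩
  by_cases hE : ∃ e ∈ Hyp.C S, Commute e q ∧ e ≠ 1
  · obtain ⟨e, he, heq, he1⟩ := hE
    exact h.good_of_transfer hu huN hqD hqP hcc he heq he1 ihM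
  push Not at hE
  intro c hc
  have hcS := h.subset_S_of_trivial hu huN hqD hqP (fun c hc hcq => hE c hc hcq) c hc
  exact ⟨c, hcS, by rw [h.sq c hcS]; exact Commute.one_left q⟩

theorem Hyp.good {G : Type u} [Group G] [Finite G] {S : Subgroup G} {P : ℕ} (h : Hyp S P) :
    Good S P :=
  good_aux _ G S P rfl h

end H1.TIElem
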