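import Cfsg.Agent.H1.TIElem.Points

/-!
The hypothesis passes to subgroups containing `S`, an element of order `P` of `N(S)` and an
involution outside `N(S)`, and to quotients by a central subgroup of odd prime order.
-/

set_option autoImplicit false
set_option linter.unusedSectionVars false
set_option linter.style.haveILetI false

namespace H1.TIElem.Hyp

open Subgroup

universe u

variable {G : Type u} [Group G] [Finite G] {S : Subgroup G} {P : ℕ}

theorem mem_normalizer_subgroupOf {H : Subgroup G} (hS : S ≤ H) {g : H} :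
    g ∈ normalizer ((S.subgroupOf H : Subgroup H) : Set H) ↔ (g : G) ∈ N S := by
  simp only [mem_normalizer_iff]
  constructor
  · intro hg w
    refine ⟨fun hw => ?_, fun hw => ?_⟩
    · exact mem_subgroupOf.1 ((hg ⟨w, hS hw⟩).1 (mem_subgroupOf.2 hw))
    · have hwH : w ∈ H := by
        have := mul_mem (mul_mem (inv_mem g.2) (hS hw)) g.2
        simpa [mul_assoc] using this
      exact mem_subgroupOf.1 ((hg ⟨w, hwH⟩).2 (mem_subgroupOf.2 hw))
  · intro hg w
    exact hg w

theorem mem_centralizer_subgroupOf {H : Subgroup G} (hS : S ≤ H) {g : H} :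
    g ∈ centralizer ((S.subgroupOf H : Subgroup H) : Set H) ↔ (g : G) ∈ C S := by
  simp only [mem_centralizer_iff]
  exact ⟨fun hg s hs => congrArg Subtype.val (hg ⟨s, hS hs⟩ (mem_subgroupOf.2 hs)),
    fun hg s hs => Subtype.ext (hg s (mem_subgroupOf.1 hs))⟩

variable (h : Hyp S P)

include h

/-- A subgroup of `N(S)` with an element of order `P` has `P` times as many elements as its
intersection with `C(S)`. -/
theorem card_eq_mul {K : Subgroup G} (hK : K ≤ N S) {q : G} (hq : q ∈ K) (hqP : orderOf q = P) :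
    Nat.card K = P * Nat.card ↥(K ⊓ C S) := by
  have hqC := h.not_mem_C hqP
  let f : ↥(K ⊓ C S) × Fin P → K := fun p =>
    ⟨(p.1 : G) * q ^ (p.2 : ℕ), mul_mem p.1.2.1 (pow_mem hq _)⟩
  have hf : Function.Bijective f := by
    refine ⟨?_, ?_⟩
    · rintro ⟨c, i⟩ ⟨c', i'⟩ e
      have e' : (c : G) * q ^ (i : ℕ) = (c' : G) * q ^ (i' : ℕ) := congrArg Subtype.val e
      have h2 : q ^ ((i : ℤ) - (i' : ℤ)) ∈ C S := by
        rw [zpow_sub, zpow_natCast, zpow_natCast,
          show q ^ (i : ℕ) * (q ^ (i' : ℕ))⁻¹ = (c : G)⁻¹ * c' by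
            rw [← eq_inv_mul_iff_mul_eq] at e'
            rw [e']; group]
        exact mul_mem (inv_mem c.2.2) c'.2.2
      have h3 := (h.pow_mem_C_iff (hK hq) hqC).1 h2
      have hii : i = i' := by
        ext
        have h4 : ((i : ℤ) - (i' : ℤ)) = 0 :=
          Int.eq_zero_of_abs_lt_dvd h3 (by
            have := i.2; have := i'.2; rw [abs_lt]; omega)
        omega
      subst hii
      exact Prod.ext (Subtype.ext (mul_right_cancel e')) rfl
    · rintro ⟨x, hx⟩
      obtain ⟨c, hc, i, hi, rfl⟩ := h.decomp (hK hq) hqC (hK hx)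
      have hcK : c ∈ K := by
        have := mul_mem hx (inv_mem (pow_mem hq i))
        rwa [mul_inv_cancel_right] at this
      exact ⟨(⟨c, hcK, hc⟩, ⟨i, hi⟩), rfl⟩
  rw [← Nat.card_congr (Equiv.ofBijective f hf), Nat.card_prod, Nat.card_fin, mul_comm]

theorem subgroup {H : Subgroup G} (hS : S ≤ H) {u q : G} (huH : u ∈ H) (huN : u ∉ N S)
    (hqH : q ∈ H) (hqN : q ∈ N S) (hqP : orderOf q = P) : Hyp (S.subgroupOf H) P where
  prime := h.prime
  three := h.three
  card_S := by rw [Nat.card_congr (subgroupOfEquivOfLe hS).toEquiv, h.card_S]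
  sq := fun s hs => Subtype.ext (h.sq s (mem_subgroupOf.1 hs))
  cent := fun t ht ht1 g hg => (mem_centralizer_subgroupOf hS).2
    (h.cent t (mem_subgroupOf.1 ht) (fun e => ht1 (Subtype.ext e)) g (congrArg Subtype.val hg.eq))
  card_N := by
    have e1 : normalizer ((S.subgroupOf H : Subgroup H) : Set H) = (N S ⊓ H).subgroupOf H := by
      ext g
      rw [mem_normalizer_subgroupOf hS, mem_subgroupOf]
      exact ⟨fun hg => ⟨hg, g.2⟩, fun hg => hg.1⟩
    have e2 : centralizer ((S.subgroupOf H : Subgroup H) : Set H) =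
        (N S ⊓ H ⊓ C S).subgroupOf H := by
      ext g
      rw [mem_centralizer_subgroupOf hS, mem_subgroupOf]
      exact ⟨fun hg => ⟨⟨h.C_le_N hg, g.2⟩, hg⟩, fun hg => hg.2⟩
    rw [e1, e2, Nat.card_congr (subgroupOfEquivOfLe inf_le_right).toEquiv,
      Nat.card_congr (subgroupOfEquivOfLe (inf_le_left.trans inf_le_right)).toEquiv]
    exact h.card_eq_mul inf_le_left ⟨hqN, hqH⟩ hqP
  odd_index := h.odd_index.of_dvd_nat ⟨H.index, (relIndex_mul_index hS).symm⟩
  not_normal := fun e => huN ((mem_normalizer_subgroupOf hS (g := ⟨u, huH⟩)).1 (e ▸ mem_top _))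
  disjoint := fun r hr hr2 t u x y ht hu hx hy hc hinv =>
    h.disjoint r hr hr2 (t : G) u x y (by rw [orderOf_coe]; exact ht) (by rw [orderOf_coe]; exact hu)
      (by rw [orderOf_coe]; exact hx) (by rw [orderOf_coe]; exact hy)
      (congrArg Subtype.val hc.eq) (congrArg Subtype.val hinv)

omit h in
theorem exists_pow_orderOf_eq {x : G} {r : ℕ} (hd : r ∣ orderOf x) :
    ∃ k : ℕ, orderOf (x ^ k) = r := by
  obtain ⟨m, hm⟩ := hd
  have hpos := orderOf_pos x
  have hm0 : m ≠ 0 := fun e => by rw [e, mul_zero] at hm; omega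
  exact ⟨m, by rw [orderOf_pow_of_dvd hm0 ⟨r, by rw [hm, mul_comm]⟩, hm,
    Nat.mul_div_cancel _ (by omega)]⟩

theorem quotient {x : G} {r : ℕ} [(zpowers x).Normal] (hr : r.Prime) (hr2 : r ≠ 2)
    (hx : orderOf x = r) (hxC : x ∈ C S) (hcent : ∀ g, Commute g x) :
    Hyp (S.map (QuotientGroup.mk' (zpowers x))) P := by
  set π := QuotientGroup.mk' (zpowers x) with hπ
  set Z := zpowers x with hZ
  have hker : π.ker = Z := QuotientGroup.ker_mk' Z
  -- a `2`-element of `Z` is trivial
  have hsmall : ∀ z ∈ Z, ∀ s ∈ S, ∀ s' ∈ S, s * z = s' → z = 1 := by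
    intro z hz s hs s' hs' e
    have hzS : z ∈ S := by
      rw [show z = s⁻¹ * s' by rw [← e]; group]
      exact mul_mem (inv_mem hs) hs'
    by_contra hne
    have h2 := h.orderOf_mem hzS hne
    obtain ⟨i, hi⟩ := mem_zpowers_iff.1 hz
    have h3 : z ^ r = 1 := by
      rw [← hi, ← zpow_natCast, ← zpow_mul, mul_comm, zpow_mul, zpow_natCast, ← hx,
        pow_orderOf_eq_one, one_zpow]
    have h4 := orderOf_dvd_of_pow_eq_one h3
    rw [h2] at h4
    exact hr2 ((Nat.prime_dvd_prime_iff_eq Nat.prime_two hr).1 h4).symm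
  have hZC : Z ≤ C S := zpowers_le.2 hxC
  have hinjS : ∀ s ∈ S, ∀ s' ∈ S, π s = π s' → s = s' := by
    intro s hs s' hs' e
    obtain ⟨z, hz, rfl⟩ := (QuotientGroup.mk'_eq_mk' Z).1 e
    rw [hsmall z hz s hs (s * z) hs' rfl, mul_one]
  have hNmem : ∀ g : G, π g ∈ normalizer ((S.map π : Subgroup _) : Set (G ⧸ Z)) ↔ g ∈ N S := by
    intro g
    rw [mem_normalizer_iff, mem_normalizer_iff]
    have key : ∀ a : G, π a ∈ normalizer ((S.map π : Subgroup _) : Set (G ⧸ Z)) →
        ∀ s ∈ S, a * s * a⁻¹ ∈ S := by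
      intro a ha s hs
      obtain ⟨s', hs', e⟩ := ((mem_normalizer_iff.1 ha) (π s)).1 ⟨s, hs, rfl⟩
      rw [← map_inv, ← map_mul, ← map_mul] at e
      obtain ⟨z, hz, e'⟩ := (QuotientGroup.mk'_eq_mk' Z).1 e
      have hcz : Commute s' z := (h.comm_C (hZC hz) hs').symm
      have hz2 : z * z = 1 := by
        calc z * z = (s' * s') * (z * z) := by rw [h.sq s' hs', one_mul]
          _ = (s' * z) * (s' * z) := by rw [hcz.symm.mul_mul_mul_comm]
          _ = (a * s * a⁻¹) * (a * s * a⁻¹) := by rw [e']
          _ = a * (s * s) * a⁻¹ := by group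
          _ = 1 := by rw [h.sq s hs]; group
      have : z = 1 := by
        obtain ⟨i, hi⟩ := mem_zpowers_iff.1 hz
        have h3 : z ^ r = 1 := by
          rw [← hi, ← zpow_natCast, ← zpow_mul, mul_comm, zpow_mul, zpow_natCast, ← hx,
            pow_orderOf_eq_one, one_zpow]
        have h4 : z ^ 2 = 1 := by rw [pow_two]; exact hz2
        have := pow_gcd_eq_one.2 ⟨h3, h4⟩
        rwa [(Nat.coprime_primes hr Nat.prime_two).2 hr2, pow_one] at this
      rw [← e', this, mul_one]
      exact hs'
    constructor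
    · intro hg s
      have hg' : π g ∈ normalizer ((S.map π : Subgroup _) : Set (G ⧸ Z)) := mem_normalizer_iff.2 hg
      refine ⟨key g hg' s, fun hs => ?_⟩
      have := key g⁻¹ (by rw [map_inv]; exact inv_mem hg') _ hs
      rwa [show g⁻¹ * (g * s * g⁻¹) * g⁻¹⁻¹ = s by group] at this
    · intro hg y
      constructor
      · rintro ⟨s, hs, rfl⟩
        exact ⟨g * s * g⁻¹, (hg s).1 hs, by rw [map_mul, map_mul, map_inv]⟩
      · rintro ⟨s, hs, e⟩
        refine ⟨g⁻¹ * s * g, (hg _).2 (by simpa [mul_assoc] using hs), ?_⟩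
        rw [map_mul, map_mul, map_inv, e]
        group
  have hCmem : ∀ g : G, π g ∈ centralizer ((S.map π : Subgroup _) : Set (G ⧸ Z)) ↔ g ∈ C S := by
    intro g
    constructor
    · intro hg
      have hgN : g ∈ N S := (hNmem g).1 (centralizer_le_normalizer _ hg)
      refine mem_centralizer_iff.2 fun s hs => ?_
      have e : π (g * s * g⁻¹) = π s := by
        rw [map_mul, map_mul, map_inv, ← mem_centralizer_iff.1 hg (π s) ⟨s, hs, rfl⟩,
          mul_inv_cancel_right]
      have := hinjS _ (h.conj_S hgN hs) s hs e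
      exact (mul_inv_eq_iff_eq_mul.1 this).symm
    · intro hg
      refine mem_centralizer_iff.2 ?_
      rintro _ ⟨s, hs, rfl⟩
      rw [← map_mul, ← map_mul, h.comm_C hg hs]
  have hcardpre : ∀ (A : Subgroup G) (B : Subgroup (G ⧸ Z)), (∀ g, π g ∈ B ↔ g ∈ A) →
      Nat.card A = r * Nat.card B := by
    intro A B hAB
    have e : A = B.comap π := by ext g; exact (hAB g).symm
    rw [e]
    have hle : Z ≤ B.comap π := fun z hz => by
      rw [mem_comap, show π z = 1 from (QuotientGroup.eq_one_iff z).2 hz]; exact one_mem _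
    have h1 := (B.comap π).card_mul_index
    have h2 := B.card_mul_index
    have h3 : (B.comap π).index = B.index :=
      index_comap_of_surjective B (QuotientGroup.mk'_surjective Z)
    have h4 : Nat.card G = r * Nat.card (G ⧸ Z) := by
      rw [Subgroup.card_eq_card_quotient_mul_card_subgroup Z, Nat.card_zpowers, hx, mul_comm]
    rw [h3, h4, ← h2, ← mul_assoc] at h1
    exact Nat.eq_of_mul_eq_mul_right (Nat.pos_of_ne_zero index_ne_zero_of_finite) h1
  exact
    { prime := h.prime
      three := h.three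
      card_S := by
        rw [← h.card_S]
        refine (Nat.card_eq_of_bijective (fun s : S => (⟨π s, (s : G), s.2, rfl⟩ : S.map π)) ⟨?_, ?_⟩).symm
        · exact fun a b e => Subtype.ext (hinjS _ a.2 _ b.2 (congrArg Subtype.val e))
        · rintro ⟨_, s, hs, rfl⟩
          exact ⟨⟨s, hs⟩, rfl⟩
      sq := by
        rintro _ ⟨s, hs, rfl⟩
        rw [← map_mul, h.sq s hs, map_one]
      cent := by
        rintro _ ⟨t, ht, rfl⟩ ht1 y hy
        obtain ⟨g, rfl⟩ := QuotientGroup.mk'_surjective Z y
        rw [hCmem]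
        refine h.cent t ht (fun e => ht1 (by rw [e, map_one])) g ?_
        have e : π (g * t * g⁻¹) = π t := by
          rw [map_mul, map_mul, map_inv, hy.eq, mul_inv_cancel_right]
        obtain ⟨z, hz, e'⟩ := (QuotientGroup.mk'_eq_mk' Z).1 e
        have hz1 : z = 1 := by
          obtain ⟨i, hi⟩ := mem_zpowers_iff.1 hz
          have h3 : z ^ r = 1 := by
            rw [← hi, ← zpow_natCast, ← zpow_mul, mul_comm, zpow_mul, zpow_natCast, ← hx,
              pow_orderOf_eq_one, one_zpow]
          have hgz : Commute (g * t * g⁻¹) z := by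
            rw [← hi]; exact (hcent _).zpow_right i
          have h4 : z ^ 2 = 1 := by
            have h5 : (g * t * g⁻¹) ^ 2 = 1 := by rw [conj_pow, pow_two, h.sq t ht]; group
            have h6 : t ^ 2 = 1 := by rw [pow_two, h.sq t ht]
            rw [← e', hgz.mul_pow, h5, one_mul] at h6
            exact h6
          have := pow_gcd_eq_one.2 ⟨h3, h4⟩
          rwa [(Nat.coprime_primes hr Nat.prime_two).2 hr2, pow_one] at this
        rw [hz1, mul_one] at e'
        exact mul_inv_eq_iff_eq_mul.1 e'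
      card_N := by
        have h1 := hcardpre (N S) _ hNmem
        have h2 := hcardpre (C S) _ hCmem
        have h3 := h.card_N
        rw [h1, h2, Nat.mul_left_comm] at h3
        exact Nat.eq_of_mul_eq_mul_left hr.pos h3
      odd_index := h.odd_index.of_dvd_nat (index_map_dvd S (QuotientGroup.mk'_surjective Z))
      not_normal := fun e => h.not_normal (eq_top_iff.2 fun g _ => (hNmem g).1 (e ▸ mem_top _))
      disjoint := by
        intro p hp hp2 t u a b ht hu ha hb hc hinv
        have lift2 : ∀ v : G ⧸ Z, orderOf v = 2 → ∃ w, π w = v ∧ orderOf w = 2 := by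
          intro v hv
          obtain ⟨g, rfl⟩ := QuotientGroup.mk'_surjective Z v
          have hvv : π g * π g = 1 := by rw [← pow_two, ← hv, pow_orderOf_eq_one]
          obtain ⟨k, hk⟩ := hr.odd_of_ne_two hr2
          have hgZ : g ^ 2 ∈ Z := (QuotientGroup.eq_one_iff _).1 (by
            show π (g ^ 2) = 1
            rw [map_pow, pow_two]; exact hvv)
          obtain ⟨i, hi⟩ := mem_zpowers_iff.1 hgZ
          have hpi : π (g ^ r) = π g := by
            rw [map_pow, hk, pow_succ, pow_mul, pow_two, hvv, one_pow, one_mul]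
          refine ⟨g ^ r, hpi, orderOf_eq_prime ?_ fun e => ?_⟩
          · rw [← pow_mul, mul_comm, pow_mul, ← hi, ← zpow_natCast, ← zpow_mul, mul_comm,
              zpow_mul, zpow_natCast, ← hx, pow_orderOf_eq_one, one_zpow]
          · rw [e, map_one] at hpi
            rw [← hpi, orderOf_one] at hv
            omega
        obtain ⟨t', rfl, ht'⟩ := lift2 t ht
        obtain ⟨u', rfl, hu'⟩ := lift2 u hu
        obtain ⟨a', rfl⟩ := QuotientGroup.mk'_surjective Z a
        obtain ⟨b', rfl⟩ := QuotientGroup.mk'_surjective Z b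
        -- `a'` commutes with `t'`
        have hcomm : Commute a' t' := by
          have e : π (a' * t' * a'⁻¹) = π t' := by
            rw [map_mul, map_mul, map_inv, hc.eq, mul_inv_cancel_right]
          obtain ⟨z, hz, e'⟩ := (QuotientGroup.mk'_eq_mk' Z).1 e
          obtain ⟨i, hi⟩ := mem_zpowers_iff.1 hz
          have h3 : z ^ r = 1 := by
            rw [← hi, ← zpow_natCast, ← zpow_mul, mul_comm, zpow_mul, zpow_natCast, ← hx,
              pow_orderOf_eq_one, one_zpow]
          have hgz : Commute (a' * t' * a'⁻¹) z := by rw [← hi]; exact (hcent _).zpow_right i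
          have h6 : t' ^ 2 = 1 := by rw [← ht', pow_orderOf_eq_one]
          have h5 : (a' * t' * a'⁻¹) ^ 2 = 1 := by rw [conj_pow, h6]; group
          have h4 : z ^ 2 = 1 := by
            rw [← e', hgz.mul_pow, h5, one_mul] at h6
            exact h6
          have hz1 := pow_gcd_eq_one.2 ⟨h3, h4⟩
          rw [(Nat.coprime_primes hr Nat.prime_two).2 hr2, pow_one] at hz1
          rw [hz1, mul_one] at e'
          exact mul_inv_eq_iff_eq_mul.1 e'
        -- an inverted element with image `b ^ 2`
        set y : G := b' * (u' * b'⁻¹ * u'⁻¹) with hy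
        have huu : u' * u' = 1 := H67.invol_sq hu'
        have hyinv : u' * y * u'⁻¹ = y⁻¹ := by
          rw [hy, inv_eq_of_mul_eq_one_right huu]
          calc u' * (b' * (u' * b'⁻¹ * u')) * u' = u' * b' * u' * b'⁻¹ * (u' * u') := by group
            _ = (b' * (u' * b'⁻¹ * u'))⁻¹ := by
              rw [huu, mul_one, mul_inv_rev, mul_inv_rev, mul_inv_rev, inv_inv,
                inv_eq_of_mul_eq_one_right huu]
              group
        have hπy : π y = π b' ^ 2 := by
          rw [hy, map_mul, map_mul, map_mul, map_inv, map_inv, pow_two]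
          have : π u' * (π b')⁻¹ * (π u')⁻¹ = π b' := by
            calc π u' * (π b')⁻¹ * (π u')⁻¹ = (π u' * π b' * (π u')⁻¹)⁻¹ := by group
              _ = π b' := by rw [hinv, inv_inv]
          rw [this]
        have hd1 : p ∣ orderOf a' := ha ▸ orderOf_map_dvd π a'
        have hd2 : p ∣ orderOf y := by
          have h2 : orderOf (π y) = p := by
            rw [hπy, orderOf_pow' _ two_ne_zero, hb,
              ((Nat.coprime_primes hp Nat.prime_two).2 hp2).gcd_eq_one, Nat.div_one]
          exact h2 ▸ orderOf_map_dvd π y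
        obtain ⟨k, hk⟩ := exists_pow_orderOf_eq hd1
        obtain ⟨l, hl⟩ := exists_pow_orderOf_eq hd2
        exact h.disjoint p hp hp2 t' u' (a' ^ k) (y ^ l) ht' hu' hk hl (hcomm.pow_left k)
          (conj_pow_fixed hyinv l) }

end H1.TIElem.Hyp
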