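import Cfsg.Agent.H1.TIElem.Inherit

/-!
The subgroup `E` of `C(S)` centralising an element of order `P` is malnormal in `C(S)` modulo `S`,
provided this holds in centralisers; fixed points of its elements; its prime divisors do not divide
`P + 2`.
-/

set_option autoImplicit false
set_option linter.unusedSectionVars false
set_option linter.style.haveILetI false

namespace H1.TIElem.Hyp

open Subgroup

universe u

variable {G : Type u} [Group G] [Finite G] {S : Subgroup G} {P : ℕ}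

/-- The condition obtained inductively in centralisers of elements of `E`. -/
def CentCond (S : Subgroup G) (q : G) : Prop :=
  ∀ x ∈ C S, Commute x q → x ≠ 1 → ∀ c ∈ C S, Commute c x → ∃ s ∈ S, Commute (s * c) q

variable (h : Hyp S P)

include h

theorem inv_eq_self {s : G} (hs : s ∈ S) : s⁻¹ = s := inv_eq_of_mul_eq_one_right (h.sq s hs)

theorem exists_conj_eq_mul {q : G} (hqN : q ∈ N S) (hqP : orderOf q = P) {s : G} (hs : s ∈ S) :
    ∃ w ∈ S, w * q * w⁻¹ = s * q := by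
  let f : S → S := fun w => ⟨(w : G) * (q * (w : G)⁻¹ * q⁻¹),
    mul_mem w.2 (h.conj_S hqN (inv_mem w.2))⟩
  have hf : Function.Injective f := by
    intro a b e
    have e' : (a : G) * (q * (a : G)⁻¹ * q⁻¹) = (b : G) * (q * (b : G)⁻¹ * q⁻¹) :=
      congrArg Subtype.val e
    by_contra hne
    refine h.not_commute_P hqP (t := (b : G)⁻¹ * a) (h.orderOf_mem (mul_mem (inv_mem b.2) a.2)
      fun e => hne (Subtype.ext (inv_mul_eq_one.1 e).symm)) ?_
    show q * ((b : G)⁻¹ * a) = (b : G)⁻¹ * a * q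
    calc q * ((b : G)⁻¹ * a) = (b : G)⁻¹ * ((b : G) * (q * (b : G)⁻¹ * q⁻¹)) * q * a := by group
      _ = (b : G)⁻¹ * ((a : G) * (q * (a : G)⁻¹ * q⁻¹)) * q * a := by rw [e']
      _ = (b : G)⁻¹ * a * q := by group
  obtain ⟨w, hw⟩ := (Finite.injective_iff_surjective.1 hf) ⟨s, hs⟩
  refine ⟨w, w.2, ?_⟩
  have h1 : (w : G) * (q * (w : G)⁻¹ * q⁻¹) = s := congrArg Subtype.val hw
  rw [← h1]
  group

section

variable {u q : G} (hu : orderOf u = 2) (huN : u ∉ N S) (hq : q ∈ D S u) (hqP : orderOf q = P)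

include hu huN hq hqP

theorem mem_D_of_E {x : G} (hx : x ∈ C S) (hxq : Commute x q) : x ∈ D S u :=
  h.mem_D_of_commute hu huN hq hqP hx hxq

theorem commute_u_of_E {x : G} (hx : x ∈ C S) (hxq : Commute x q) : Commute x u :=
  h.commute_u hu huN (h.mem_D_of_E hu huN hq hqP hx hxq) hx

theorem commute_of_D_C {x : G} (hxD : x ∈ D S u) (hx : x ∈ C S) : Commute x q :=
  (h.orderP_props hu huN hq hqP).2 x hxD hx

theorem odd_of_E {x : G} (hx : x ∈ C S) (hxq : Commute x q) : Odd (orderOf x) :=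
  h.odd_D hu huN (h.mem_D_of_E hu huN hq hqP hx hxq)

theorem malnormal (hcc : CentCond S q) {e y : G} (he : e ∈ C S) (heq : Commute e q) (he1 : e ≠ 1)
    (hy : y ∈ C S) (hye : Commute (y * e * y⁻¹) q) : ∃ s ∈ S, Commute (s * y) q := by
  have hqN := (mem_D.1 hq).1
  set c : G := y⁻¹ * q * y * q⁻¹ with hc
  have hcC : c ∈ C S := by
    rw [hc, show y⁻¹ * q * y * q⁻¹ = y⁻¹ * (q * y * q⁻¹) by group]
    exact mul_mem (inv_mem hy) (h.conj_C hqN hy)
  have hce : Commute c e := by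
    have h1 : Commute (y⁻¹ * q * y) e := by
      show y⁻¹ * q * y * e = e * (y⁻¹ * q * y)
      calc y⁻¹ * q * y * e = y⁻¹ * (q * (y * e * y⁻¹)) * y := by group
        _ = y⁻¹ * ((y * e * y⁻¹) * q) * y := by rw [hye.eq]
        _ = e * (y⁻¹ * q * y) := by group
    exact h1.mul_left heq.symm.inv_left
  obtain ⟨s, hs, hsc⟩ := hcc e he heq he1 c hcC hce
  set f : G := s * c with hf
  have hfC : f ∈ C S := mul_mem (h.S_le_C hs) hcC
  have hcf : c = s * f := by rw [hf, ← mul_assoc, h.sq s hs, one_mul]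
  obtain ⟨w, hw, hwq⟩ := h.exists_conj_eq_mul hqN hqP hs
  have hfs : Commute f (s * q) := (show Commute f s from h.comm_C hfC hs).mul_right hsc
  have hq' : y⁻¹ * q * y = f * (w * q * w⁻¹) := by
    rw [hwq, ← mul_assoc, h.comm_C hfC hs, ← hcf, hc]
    group
  have hf1 : f = 1 := by
    have h1 : (y⁻¹ * q * y) ^ P = 1 := by
      have := conj_pow (a := y⁻¹) (b := q) (i := P)
      rw [inv_inv, ← hqP, pow_orderOf_eq_one, mul_one, inv_mul_cancel, hqP] at this
      exact this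
    rw [hq', hwq, hfs.mul_pow, ← hwq, conj_pow, ← hqP, pow_orderOf_eq_one, mul_one,
      mul_inv_cancel, mul_one, hqP] at h1
    by_contra hne
    haveI : Fact P.Prime := ⟨h.prime⟩
    exact h.orderOf_C_ne hfC (orderOf_eq_prime h1 hne)
  rw [hf1, one_mul] at hq'
  refine ⟨w, hw, ?_⟩
  rw [← h.comm_C hy hw]
  show y * w * q = q * (y * w)
  calc y * w * q = y * (w * q * w⁻¹) * w := by group
    _ = y * (y⁻¹ * q * y) * w := by rw [hq']
    _ = q * (y * w) := by group

/-- The fixed points of a non-trivial element of `E`. -/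
theorem fixed_point (hcc : CentCond S q) {x g : G} (hx : x ∈ C S) (hxq : Commute x q) (hx1 : x ≠ 1)
    (hg : g ∉ N S) (hfix : g⁻¹ * x * g ∈ N S) : ∃ s ∈ S, (s * u)⁻¹ * g ∈ N S := by
  obtain ⟨c, hc, hm⟩ := h.C_transitive huN hg
  have hcx : c⁻¹ * x * c ∈ C S := mul_mem (mul_mem (inv_mem hc) hx) hc
  have hD : c⁻¹ * x * c ∈ D S u := mem_D.2 ⟨h.C_le_N hcx, by
    rw [show u⁻¹ * (c⁻¹ * x * c) * u = (g⁻¹ * c * u)⁻¹ * (g⁻¹ * x * g) * (g⁻¹ * c * u) by group]
    exact mul_mem (mul_mem (inv_mem hm) hfix) hm⟩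
  have hcomm := h.commute_of_D_C hu huN hq hqP hD hcx
  obtain ⟨s, hs, hsc⟩ := h.malnormal hu huN hq hqP hcc hx hxq hx1 (inv_mem hc)
    (by rwa [inv_inv])
  set f : G := s * c⁻¹ with hf
  have hfC : f ∈ C S := mul_mem (h.S_le_C hs) (inv_mem hc)
  have hfu := h.commute_u_of_E hu huN hq hqP hfC hsc
  refine ⟨s, hs, ?_⟩
  have e1 : c * u = s * u * f⁻¹ := by
    rw [mul_assoc, ← hfu.inv_left.eq, ← mul_assoc, ← h.comm_C (inv_mem hfC) hs, hf]
    group
  rw [show (s * u)⁻¹ * g = f⁻¹ * (g⁻¹ * (s * u * f⁻¹))⁻¹ by group, ← e1, ← mul_assoc g⁻¹]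
  exact mul_mem (inv_mem (h.C_le_N hfC)) (inv_mem hm)

theorem fixes_base {x s : G} (hx : x ∈ C S) (hxq : Commute x q) (hs : s ∈ S) :
    (s * u)⁻¹ * x * (s * u) ∈ N S := by
  have hxu := h.commute_u_of_E hu huN hq hqP hx hxq
  have e1 : x * (s * u) = s * u * x := ((show Commute x s from h.comm_C hx hs).mul_right hxu).eq
  rw [mul_assoc, e1, inv_mul_cancel_left]
  exact h.C_le_N hx

theorem base_not_mem {s : G} (hs : s ∈ S) : s * u ∉ N S := fun hm => huN (by
  have := mul_mem (inv_mem (h.S_le_N hs)) hm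
  rwa [inv_mul_cancel_left] at this)

theorem base_inj {s s' : G} (hs : s ∈ S) (hs' : s' ∈ S) (hm : (s * u)⁻¹ * (s' * u) ∈ N S) :
    s = s' := by
  by_contra hne
  refine huN (H65.se_conj_mem h.stronglyEmbedded (t := s⁻¹ * s')
    (h.orderOf_mem (mul_mem (inv_mem hs) hs') fun e => hne (inv_mul_eq_one.1 e))
    (h.S_le_N (mul_mem (inv_mem hs) hs')) ?_)
  rwa [show u⁻¹ * (s⁻¹ * s') * u = (s * u)⁻¹ * (s' * u) by group]

theorem card_fixedPoints (hcc : CentCond S q) {X : Subgroup G} (hXC : X ≤ C S)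
    (hXq : ∀ x ∈ X, Commute x q) (hX : X ≠ ⊥) :
    Nat.card (MulAction.fixedPoints X (G ⧸ N S)) = P + 2 := by
  obtain ⟨x₀, hx₀, hx₀1⟩ := X.bot_or_exists_ne_one.resolve_left hX
  let p : Option S → G ⧸ N S := fun o =>
    o.elim (QuotientGroup.mk 1) fun s => QuotientGroup.mk ((s : G) * u)
  have hp : ∀ o, p o ∈ MulAction.fixedPoints X (G ⧸ N S) := by
    intro o x
    cases o with
    | none =>
      show (x : G) • (QuotientGroup.mk 1 : G ⧸ N S) = QuotientGroup.mk 1
      exact H65.smul_coset_eq_iff.2 (by simpa using h.C_le_N (hXC x.2))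
    | some s =>
      exact H65.smul_coset_eq_iff.2 (h.fixes_base hu huN hq hqP (hXC x.2) (hXq x x.2) s.2)
  have hb : Function.Bijective fun o => (⟨p o, hp o⟩ : MulAction.fixedPoints X (G ⧸ N S)) := by
    refine ⟨?_, ?_⟩
    · intro a b e
      have e' : p a = p b := congrArg Subtype.val e
      cases a with
      | none => cases b with
        | none => rfl
        | some s =>
          exfalso
          refine h.base_not_mem hu huN hq hqP s.2 ?_
          have := QuotientGroup.eq.1 e'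
          rwa [inv_one, one_mul] at this
      | some s => cases b with
        | none =>
          exfalso
          refine h.base_not_mem hu huN hq hqP s.2 ?_
          have := QuotientGroup.eq.1 e'.symm
          rwa [inv_one, one_mul] at this
        | some s' =>
          exact congrArg some (Subtype.ext (h.base_inj hu huN hq hqP s.2 s'.2
            (QuotientGroup.eq.1 e')))
    · rintro ⟨z, hz⟩
      obtain ⟨g, rfl⟩ := QuotientGroup.mk_surjective z
      by_cases hg : g ∈ N S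
      · exact ⟨none, Subtype.ext (QuotientGroup.eq.2 (by simpa using hg))⟩
      obtain ⟨s, hs, hm⟩ := h.fixed_point hu huN hq hqP hcc (hXC hx₀) (hXq x₀ hx₀) hx₀1 hg
        (H65.smul_coset_eq_iff.1 (hz ⟨x₀, hx₀⟩))
      exact ⟨some ⟨s, hs⟩, Subtype.ext (QuotientGroup.eq.2 hm)⟩
  rw [← Nat.card_congr (Equiv.ofBijective _ hb), Finite.card_option, h.card_S]

/-- A prime dividing the order of an element of `E` does not divide `P + 2`. -/
theorem not_dvd_add_two (hcc : CentCond S q) {e : G} (he : e ∈ C S) (heq : Commute e q) {r : ℕ}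
    (hr : r.Prime) (heo : orderOf e = r) : ¬ r ∣ P + 2 := by
  intro hrd
  classical
  haveI : Fact r.Prime := ⟨hr⟩
  have hqN := (mem_D.1 hq).1
  have he1 : e ≠ 1 := fun e1 => by rw [e1, orderOf_one] at heo; exact hr.ne_one heo.symm
  have heodd := h.odd_of_E hu huN hq hqP he heq
  rw [heo] at heodd
  have hr2 : r ≠ 2 := fun e2 => by rw [e2] at heodd; exact absurd heodd (by decide)
  have huu := H67.invol_sq hu
  have hui : u⁻¹ = u := inv_eq_of_mul_eq_one_right huu
  set H := centralizer ({e} : Set G) with hH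
  have memH : ∀ {g : G}, g ∈ H ↔ Commute g e := mem_centralizer_singleton_iff
  have hSH : S ≤ H := fun s hs => memH.2 (h.comm_C he hs).symm
  have huH : u ∈ H := memH.2 (h.commute_u_of_E hu huN hq hqP he heq).symm
  have hqH : q ∈ H := memH.2 heq.symm
  set W := C S ⊓ centralizer {q} ⊓ H with hW
  have memW : ∀ {g : G}, g ∈ W ↔ (g ∈ C S ∧ Commute g q) ∧ g ∈ H := fun {g} =>
    ⟨fun hg => ⟨⟨hg.1.1, mem_centralizer_singleton_iff.1 hg.1.2⟩, hg.2⟩,
      fun hg => ⟨⟨hg.1.1, mem_centralizer_singleton_iff.2 hg.1.2⟩, hg.2⟩⟩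
  have hNdec : ∀ g ∈ N S, g ∈ H → ∃ s ∈ S, ∃ f ∈ W, ∃ i, g = s * f * q ^ i := by
    intro g hg hgH
    obtain ⟨c, hc, i, -, rfl⟩ := h.decomp hqN (h.not_mem_C hqP) hg
    have hcH : c ∈ H := by
      have := mul_mem hgH (inv_mem (pow_mem hqH i))
      rwa [mul_inv_cancel_right] at this
    obtain ⟨s, hs, hsc⟩ := hcc e he heq he1 c hc (memH.1 hcH)
    exact ⟨s, hs, s * c, memW.2 ⟨⟨mul_mem (h.S_le_C hs) hc, hsc⟩, mul_mem (hSH hs) hcH⟩, i,
      by rw [← mul_assoc, h.sq s hs, one_mul]⟩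
  have hfixH : ∀ g ∈ H, g ∉ N S → ∃ s ∈ S, (s * u)⁻¹ * g ∈ N S := fun g hg hgN =>
    h.fixed_point hu huN hq hqP hcc he heq he1 hgN (by
      rw [mul_assoc, ← (memH.1 hg).eq, inv_mul_cancel_left]; exact h.C_le_N he)
  have hWu : ∀ f ∈ W, Commute f u := fun f hf =>
    h.commute_u_of_E hu huN hq hqP (memW.1 hf).1.1 (memW.1 hf).1.2
  have hWS : ∀ f ∈ W, ∀ s ∈ S, Commute f s := fun f hf s hs => h.comm_C (memW.1 hf).1.1 hs
  have hWN : ∀ g ∈ N S, g ∈ H → ∀ w ∈ W, g * w * g⁻¹ ∈ W := by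
    intro g hg hgH w hw
    obtain ⟨s, hs, f, hf, i, rfl⟩ := hNdec g hg hgH
    have h1 : f * w * f⁻¹ ∈ W := mul_mem (mul_mem hf hw) (inv_mem hf)
    rw [show s * f * q ^ i * w * (s * f * q ^ i)⁻¹ = s * (f * (q ^ i * w * (q ^ i)⁻¹) * f⁻¹) * s⁻¹
      by group, ← ((memW.1 hw).1.2.pow_right i).eq, mul_inv_cancel_right,
      ← (hWS _ h1 s hs).eq, mul_inv_cancel_right]
    exact h1
  haveI hWn : (W.subgroupOf H).Normal := by
    refine ⟨fun w hw g => ?_⟩
    rw [mem_subgroupOf] at hw ⊢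
    rw [coe_mul, coe_mul, coe_inv]
    by_cases hg : (g : G) ∈ N S
    · exact hWN g hg g.2 w hw
    obtain ⟨s, hs, hm⟩ := hfixH g g.2 hg
    have hn := hWN _ hm (mul_mem (inv_mem (mul_mem (hSH hs) huH)) g.2) w hw
    rw [show (g : G) * w * (g : G)⁻¹ =
      (s * u) * (((s * u)⁻¹ * g) * w * ((s * u)⁻¹ * g)⁻¹) * (s * u)⁻¹ by group]
    rw [← ((hWS _ hn s hs).mul_right (hWu _ hn)).eq, mul_inv_cancel_right]
    exact hn
  -- `r`-elements of the stabiliser lie in `W`
  have hrW : ∀ g ∈ N S, g ∈ H → (∃ k, orderOf g = r ^ k) → g ∈ W := by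
    intro g hg hgH ⟨k, hk⟩
    obtain ⟨s, hs, f, hf, i, hgeq⟩ := hNdec g hg hgH
    have hgC : g ∈ C S := by
      by_contra hgC
      have h1 := (h.pow_mem_C_iff hg hgC (i := (orderOf g : ℤ))).1 (by
        rw [zpow_natCast, pow_orderOf_eq_one]; exact one_mem _)
      rw [hk] at h1
      have h2 := h.prime.dvd_of_dvd_pow (Int.natCast_dvd_natCast.1 h1)
      have hre : P = r := (Nat.prime_dvd_prime_iff_eq h.prime hr).1 h2
      exact h.orderOf_C_ne he (heo.trans hre.symm)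
    have hqi : q ^ i = 1 := by
      have h1 : q ^ i ∈ C S := by
        rw [show q ^ i = (s * f)⁻¹ * g by rw [hgeq]; group]
        exact mul_mem (inv_mem (mul_mem (h.S_le_C hs) (memW.1 hf).1.1)) hgC
      have h2 := (h.pow_mem_C_iff hqN (h.not_mem_C hqP) (i := (i : ℤ))).1 (by rwa [zpow_natCast])
      exact orderOf_dvd_iff_pow_eq_one.1 (hqP ▸ Int.natCast_dvd_natCast.1 h2)
    rw [hqi, mul_one] at hgeq
    have hs1 : s = 1 := by
      have hfo := h.odd_of_E hu huN hq hqP (memW.1 hf).1.1 (memW.1 hf).1.2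
      have h1 : g ^ r ^ k = 1 := by rw [← hk, pow_orderOf_eq_one]
      rw [hgeq, (hWS f hf s hs).symm.mul_pow] at h1
      obtain ⟨m, hm⟩ := (hr.odd_of_ne_two hr2).pow (n := k)
      rw [hm, pow_succ, pow_mul, pow_two, h.sq s hs, one_pow, one_mul] at h1
      rw [← hm] at h1
      have h2 : Commute s q := by
        rw [eq_inv_of_mul_eq_one_left h1]
        exact ((memW.1 hf).1.2.pow_left _).inv_left
      by_contra hne
      exact h.not_commute_P hqP (h.orderOf_mem hs hne) h2.symm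
    rw [hgeq, hs1, one_mul]
    exact hf
  -- the number of cosets of `N(S) ⊓ H` in `H`
  have hidx : ((N S).subgroupOf H).index = P + 2 := by
    let p : Option S → H ⧸ (N S).subgroupOf H := fun o =>
      o.elim (QuotientGroup.mk 1) fun s => QuotientGroup.mk ⟨(s : G) * u, mul_mem (hSH s.2) huH⟩
    have hb : Function.Bijective p := by
      refine ⟨?_, ?_⟩
      · intro a b e'
        cases a with
        | none => cases b with
          | none => rfl
          | some s =>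
            exfalso
            refine h.base_not_mem hu huN hq hqP s.2 ?_
            have := mem_subgroupOf.1 (QuotientGroup.eq.1 e')
            simpa using this
        | some s => cases b with
          | none =>
            exfalso
            refine h.base_not_mem hu huN hq hqP s.2 ?_
            have := mem_subgroupOf.1 (QuotientGroup.eq.1 e'.symm)
            simpa using this
          | some s' =>
            exact congrArg some (Subtype.ext (h.base_inj hu huN hq hqP s.2 s'.2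
              (mem_subgroupOf.1 (QuotientGroup.eq.1 e'))))
      · intro z
        obtain ⟨g, rfl⟩ := QuotientGroup.mk_surjective z
        by_cases hg : (g : G) ∈ N S
        · exact ⟨none, QuotientGroup.eq.2 (by simpa [mem_subgroupOf] using hg)⟩
        obtain ⟨s, hs, hm⟩ := hfixH g g.2 hg
        exact ⟨some ⟨s, hs⟩, QuotientGroup.eq.2 (mem_subgroupOf.2 hm)⟩
    rw [index_eq_card, ← Nat.card_congr (Equiv.ofBijective p hb), Finite.card_option, h.card_S]
  have hdW : r ∣ Nat.card (H ⧸ W.subgroupOf H) := by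
    rw [← index_eq_card]
    refine hrd.trans (hidx ▸ index_dvd_of_le fun w hw => ?_)
    rw [mem_subgroupOf] at hw ⊢
    exact h.C_le_N (memW.1 hw).1.1
  obtain ⟨yb, hyb⟩ := exists_prime_orderOf_dvd_card' r hdW
  obtain ⟨y₀, rfl⟩ := QuotientGroup.mk'_surjective (W.subgroupOf H) yb
  obtain ⟨a, m, hm, hn⟩ := Nat.exists_eq_pow_mul_and_not_dvd (orderOf_pos y₀).ne' r hr.ne_one
  set y : H := y₀ ^ m with hy
  set π := QuotientGroup.mk' (W.subgroupOf H) with hπ
  have hπy : orderOf (π y) = r := by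
    rw [hy, map_pow, orderOf_pow' _ (fun e0 => hm (by rw [e0]; exact dvd_zero r)), hyb,
      ((hr.coprime_iff_not_dvd).2 hm).gcd_eq_one, Nat.div_one]
  have hyr : ∃ k, orderOf (y : G) = r ^ k := by
    have h1 : (y : G) ^ r ^ a = 1 := by
      rw [← coe_pow, hy, ← pow_mul, mul_comm m, ← hn, pow_orderOf_eq_one, coe_one]
    obtain ⟨k, -, hk⟩ := (Nat.dvd_prime_pow hr).1 (orderOf_dvd_of_pow_eq_one h1)
    exact ⟨k, hk⟩
  have hyW : ∀ j : ℕ, (y : G) ^ j ∈ W → r ∣ j := fun j hj => by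
    rw [← hπy, orderOf_dvd_iff_pow_eq_one, ← map_pow]
    exact (QuotientGroup.eq_one_iff _).2 (mem_subgroupOf.2 (by rwa [coe_pow]))
  have hyN : (y : G) ∉ N S := fun hm' => by
    have := hyW 1 (by rw [pow_one]; exact hrW _ hm' y.2 hyr)
    exact hr.ne_one (Nat.dvd_one.1 this)
  have hyy : (y : G) * y ∉ N S := fun hm' => by
    obtain ⟨k, hk⟩ := hyr
    have hord : ∃ k, orderOf ((y : G) * y) = r ^ k := by
      obtain ⟨k', -, hk'⟩ := (Nat.dvd_prime_pow hr).1 (hk ▸ (by
        rw [← pow_two]; exact orderOf_pow_dvd 2 : orderOf ((y : G) * y) ∣ orderOf (y : G)))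
      exact ⟨k', hk'⟩
    have := hyW 2 (by rw [pow_two]; exact hrW _ hm' (mul_mem y.2 y.2) hord)
    exact hr2 ((Nat.prime_dvd_prime_iff_eq hr Nat.prime_two).1 this)
  obtain ⟨s₁, hs₁, hm₁⟩ := hfixH y y.2 hyN
  obtain ⟨s₂, hs₂, hm₂⟩ := hfixH (y : G)⁻¹ (inv_mem y.2) (fun hh => hyN (inv_mem_iff.1 hh))
  set s := s₁ * s₂ with hs
  have hsS : s ∈ S := mul_mem hs₁ hs₂
  have hsm : (y : G)⁻¹ * s * (y : G)⁻¹ ∈ N S := by
    rw [show (y : G)⁻¹ * s * (y : G)⁻¹ =
        ((s₁ * u)⁻¹ * (y : G))⁻¹ * ((s₂⁻¹ * u)⁻¹ * (y : G)⁻¹) by rw [hs]; group, h.inv_eq_self hs₂]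
    exact mul_mem (inv_mem hm₁) hm₂
  have hs1 : s ≠ 1 := fun e1 => hyy (by
    rw [e1, mul_one] at hsm
    have := inv_mem hsm
    rwa [mul_inv_rev, inv_inv] at this)
  have hsi := h.inv_eq_self hsS
  set g : G := (y : G) * s with hg
  have hgy : g * y ∈ N S := by
    have := inv_mem hsm
    rwa [mul_inv_rev, mul_inv_rev, inv_inv, hsi, ← mul_assoc] at this
  set g' : G := s₁ * g * s₁ with hg'
  have hs₁i := h.inv_eq_self hs₁
  have h1 : u * g' ∈ N S := by
    rw [hg', hg, show u * (s₁ * ((y : G) * s) * s₁) =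
      (u⁻¹ * s₁⁻¹ * y) * (s * s₁) by rw [hui, hs₁i]; group, ← mul_inv_rev]
    exact mul_mem hm₁ (h.S_le_N (mul_mem hsS hs₁))
  have h2 : g' * u ∈ N S := by
    rw [hg', show s₁ * g * s₁ * u = s₁ * ((g * y) * ((s₁ * u)⁻¹ * y)⁻¹) by group]
    exact mul_mem (h.S_le_N hs₁) (mul_mem hgy (inv_mem hm₁))
  have hdD : u * g' ∈ D S u := mem_D.2 ⟨h1, by
    rwa [show u⁻¹ * (u * g') * u = g' * u by group]⟩
  obtain ⟨f, hfC, i, -, hfeq⟩ := h.decomp hqN (h.not_mem_C hqP) (mem_D.1 hdD).1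
  have hfD : f ∈ D S u := by
    have := mul_mem hdD (inv_mem (pow_mem hq i))
    rwa [hfeq, mul_inv_cancel_right] at this
  have hgH : g' ∈ H := mul_mem (mul_mem (hSH hs₁) (mul_mem y.2 (hSH hsS))) (hSH hs₁)
  have hfW : f ∈ W := memW.2 ⟨⟨hfC, h.commute_of_D_C hu huN hq hqP hfD hfC⟩, by
    have := mul_mem (mul_mem huH hgH) (inv_mem (pow_mem hqH i))
    rwa [hfeq, mul_inv_cancel_right] at this⟩
  have hqinv := conj_pow_fixed (h.orderP_props hu huN hq hqP).1 i
  have hg'2 : g' * g' = f * f := by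
    have hgu : g' = u * (f * q ^ i) := by rw [← hfeq, ← mul_assoc, huu, one_mul]
    have hfu := (hWu f hfW).eq
    have hfq : f * q ^ i = q ^ i * f := ((memW.1 hfW).1.2.pow_right i).eq
    rw [hgu]
    calc u * (f * q ^ i) * (u * (f * q ^ i)) = u * f * (q ^ i * u) * (f * q ^ i) := by group
      _ = f * (u * q ^ i * u⁻¹) * (q ^ i * f) := by
        rw [← hfu, hfq, hui]; group
      _ = f * f := by rw [hqinv]; group
  have hgg : g * g ∈ W := by
    have hgs : g * g = s₁ * (g' * g') * s₁ := by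
      rw [hg']
      calc g * g = (s₁ * s₁) * g * (s₁ * s₁) * g * (s₁ * s₁) := by rw [h.sq s₁ hs₁]; group
        _ = _ := by group
    rw [hgs, hg'2, ← (hWS _ (mul_mem hfW hfW) s₁ hs₁).eq, mul_assoc, h.sq s₁ hs₁, mul_one]
    exact mul_mem hfW hfW
  set w : G := y * s * (y : G)⁻¹ with hw
  set z : G := y * (w * (y : G)⁻¹ * w⁻¹) with hz
  have hww : orderOf w = 2 := H67.invol_conj (h.orderOf_mem hsS hs1) _
  have hzinv : w * z * w⁻¹ = z⁻¹ := by
    have key : ∀ x v : G, v * v = 1 →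
        v * (x * (v * x⁻¹ * v⁻¹)) * v⁻¹ = (x * (v * x⁻¹ * v⁻¹))⁻¹ := by
      intro x v hv
      rw [inv_eq_of_mul_eq_one_right hv]
      calc v * (x * (v * x⁻¹ * v)) * v = v * x * v * x⁻¹ * (v * v) := by group
        _ = (x * (v * x⁻¹ * v))⁻¹ := by
          rw [hv, mul_one, mul_inv_rev, mul_inv_rev, mul_inv_rev, inv_inv,
            inv_eq_of_mul_eq_one_right hv]
          group
    exact key _ _ (H67.invol_sq hww)
  have hzy : z = y * y * (g * g)⁻¹ := by
    rw [hz, hw, hg]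
    calc (y : G) * ((y : G) * s * (y : G)⁻¹ * (y : G)⁻¹ * ((y : G) * s * (y : G)⁻¹)⁻¹)
        = (y : G) * y * (s * (y : G)⁻¹ * s⁻¹ * (y : G)⁻¹) := by group
      _ = (y : G) * y * (s⁻¹ * (y : G)⁻¹ * s⁻¹ * (y : G)⁻¹) := by rw [hsi]
      _ = _ := by group
  have hzH : z ∈ H := by
    rw [hzy]; exact mul_mem (mul_mem y.2 y.2) (inv_mem hgg.2)
  have hπz : orderOf (π ⟨z, hzH⟩) = r := by
    have he' : (⟨z, hzH⟩ : H) = y * y * (⟨g * g, hgg.2⟩ : H)⁻¹ := Subtype.ext hzy
    have h1' : π (⟨g * g, hgg.2⟩ : H) = 1 :=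
      (QuotientGroup.eq_one_iff _).2 (mem_subgroupOf.2 hgg)
    rw [he', map_mul, map_inv, h1', inv_one, mul_one, map_mul, ← pow_two,
      orderOf_pow' _ two_ne_zero, hπy,
      ((Nat.coprime_primes hr Nat.prime_two).2 hr2).gcd_eq_one, Nat.div_one]
  have hdvd : r ∣ orderOf z := by
    rw [← Subgroup.orderOf_mk (H := H) z hzH, ← hπz]
    exact orderOf_map_dvd π _
  obtain ⟨l, hl⟩ := exists_pow_orderOf_eq hdvd
  obtain ⟨t, ht, ht1⟩ := h.exists_mem_ne_one
  exact h.disjoint r hr hr2 t w e (z ^ l) (h.orderOf_mem ht ht1) hww heo hl (h.comm_C he ht)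
    (conj_pow_fixed hzinv l)

end

end H1.TIElem.Hyp
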