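import Cfsg.Agent.H1.TIElem.Basic

/-!
The action on the cosets of `N(S)`: an element of order `P` of `N(S)` fixes at most two points and
`C(S)` is transitive on the points other than `N(S)`.
-/

set_option autoImplicit false
set_option linter.unusedSectionVars false
set_option linter.style.haveILetI false

namespace H1.TIElem.Hyp

open Subgroup

variable {G : Type*} [Group G] [Finite G] {S : Subgroup G} {P : ℕ} (h : Hyp S P)

include h

/-- An element of order `P` of `N(S)` fixes at most one other coset of `N(S)`. -/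
theorem fixes_two {q a b : G} (hqN : q ∈ N S) (hq : orderOf q = P) (ha : a ∉ N S) (hb : b ∉ N S)
    (haq : a⁻¹ * q * a ∈ N S) (hbq : b⁻¹ * q * b ∈ N S) : a⁻¹ * b ∈ N S := by
  by_contra hab
  obtain ⟨i, hi, hiN, hai⟩ := h.exists_invol_coset ha
  obtain ⟨j, hj, hjN, hbj⟩ := h.exists_invol_coset hb
  have hib : i⁻¹ * b ∉ N S := fun hm => hab (by
    have := mul_mem hai hm
    rwa [show a⁻¹ * i * (i⁻¹ * b) = a⁻¹ * b by group] at this)
  obtain ⟨k, hk, hkN, hibk⟩ := h.exists_invol_coset hib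
  have hiD : q ∈ D S i := mem_D.2 ⟨hqN, by
    rw [show i⁻¹ * q * i = (a⁻¹ * i)⁻¹ * (a⁻¹ * q * a) * (a⁻¹ * i) by group]
    exact mul_mem (mul_mem (inv_mem hai) haq) hai⟩
  have hjD : q ∈ D S j := mem_D.2 ⟨hqN, by
    rw [show j⁻¹ * q * j = (b⁻¹ * j)⁻¹ * (b⁻¹ * q * b) * (b⁻¹ * j) by group]
    exact mul_mem (mul_mem (inv_mem hbj) hbq) hbj⟩
  set q' : G := i⁻¹ * q * i with hq'
  have hkD : q' ∈ D S k := mem_D.2 ⟨(mem_D.1 hiD).2, by
    rw [hq', show k⁻¹ * (i⁻¹ * q * i) * k =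
      ((i⁻¹ * b)⁻¹ * k)⁻¹ * (b⁻¹ * q * b) * ((i⁻¹ * b)⁻¹ * k) by group]
    exact mul_mem (mul_mem (inv_mem hibk) hbq) hibk⟩
  have hq'P : orderOf q' = P := by
    rw [hq', ← hq]
    simpa using orderOf_injective (MulAut.conj i⁻¹).toMonoidHom (MulAut.conj i⁻¹).injective q
  have e1 := (h.orderP_props hi hiN hiD hq).1
  have e2 := (h.orderP_props hj hjN hjD hq).1
  have e3 := (h.orderP_props hk hkN hkD hq'P).1
  have ew : i * k * i⁻¹ * q * (i * k * i⁻¹)⁻¹ = q⁻¹ := by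
    calc i * k * i⁻¹ * q * (i * k * i⁻¹)⁻¹ = i * (k * q' * k⁻¹) * i⁻¹ := by rw [hq']; group
      _ = q⁻¹ := by rw [e3, hq']; group
  set g : G := j * (i * k * i⁻¹) * i with hg
  have hgN : g ∈ N S := by
    have h1 : j * b ∈ N S := by
      have := inv_mem hbj
      rwa [mul_inv_rev, inv_inv, inv_eq_of_mul_eq_one_right (H67.invol_sq hj)] at this
    rw [hg, show j * (i * k * i⁻¹) * i = (j * b) * ((i⁻¹ * b)⁻¹ * k) by group]
    exact mul_mem h1 hibk
  have eg : g * q * g⁻¹ = q⁻¹ := by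
    calc g * q * g⁻¹ = j * (i * k * i⁻¹ * (i * q * i⁻¹) * (i * k * i⁻¹)⁻¹) * j⁻¹ := by
          rw [hg]; group
      _ = j * (i * k * i⁻¹ * q * (i * k * i⁻¹)⁻¹)⁻¹ * j⁻¹ := by rw [e1]; group
      _ = j * q * j⁻¹ := by rw [ew, inv_inv]
      _ = q⁻¹ := e2
  have h2 := h.commutator_mem_C hgN hqN
  rw [eg, show q⁻¹ * q⁻¹ = q ^ (-2 : ℤ) by group] at h2
  have h3 := Int.le_of_dvd two_pos
    (Int.dvd_neg.1 ((h.pow_mem_C_iff hqN (h.not_mem_C hq)).1 h2))
  have := h.three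
  omega

/-- An element of `C(S)` commuting with an element of order `P` of a two-point stabiliser lies
in that stabiliser. -/
theorem mem_D_of_commute {u q c : G} (hu : orderOf u = 2) (huN : u ∉ N S) (hq : q ∈ D S u)
    (hqP : orderOf q = P) (hc : c ∈ C S) (hcq : Commute c q) : c ∈ D S u := by
  refine mem_D.2 ⟨h.C_le_N hc, ?_⟩
  have hcu : c * u ∉ N S := fun hm => huN (by
    have := mul_mem (inv_mem (h.C_le_N hc)) hm
    rwa [inv_mul_cancel_left] at this)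
  rw [mul_assoc]
  refine h.fixes_two (mem_D.1 hq).1 hqP huN hcu (mem_D.1 hq).2 ?_
  rw [show (c * u)⁻¹ * q * (c * u) = u⁻¹ * (c⁻¹ * (q * c)) * u by group, ← hcq.eq,
    inv_mul_cancel_left]
  exact (mem_D.1 hq).2

/-- The elements of `C(S)` commuting with such an element of order `P`. -/
theorem mem_E_iff {u q c : G} (hu : orderOf u = 2) (huN : u ∉ N S) (hq : q ∈ D S u)
    (hqP : orderOf q = P) : c ∈ C S ⊓ centralizer {q} ↔ c ∈ D S u ⊓ C S := by
  constructor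
  · rintro ⟨hc, hcq⟩
    exact ⟨h.mem_D_of_commute hu huN hq hqP hc (mem_centralizer_singleton_iff.1 hcq), hc⟩
  · rintro ⟨hc, hcC⟩
    exact ⟨hcC, mem_centralizer_singleton_iff.2 ((h.orderP_props hu huN hq hqP).2 c hc hcC)⟩

/-- Subgroups of order `P` of `N(S)` are conjugate under `C(S)`. -/
theorem conj_orderP {q q' : G} (hqN : q ∈ N S) (hq'N : q' ∈ N S) (hq : orderOf q = P)
    (hq' : orderOf q' = P) : ∃ c ∈ C S, ∃ m : ℕ, c * q * c⁻¹ = q' ^ m := by
  haveI : Fact P.Prime := ⟨h.prime⟩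
  have hsyl : ∀ x : G, ∀ hx : x ∈ N S, orderOf x = P →
      ∃ T : Sylow P (N S), (T : Subgroup (N S)) = zpowers ⟨x, hx⟩ := by
    intro x hx hxP
    have hc : Nat.card (zpowers (⟨x, hx⟩ : N S)) = P := by
      rw [Nat.card_zpowers, Subgroup.orderOf_mk, hxP]
    have hidx : (zpowers (⟨x, hx⟩ : N S)).index = Nat.card (C S) := by
      have h1 := (zpowers (⟨x, hx⟩ : N S)).card_mul_index
      rw [hc, h.card_N] at h1
      exact Nat.eq_of_mul_eq_mul_left h.prime.pos h1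
    have hp : IsPGroup P (zpowers (⟨x, hx⟩ : N S)) :=
      IsPGroup.of_card (n := 1) (by rw [hc, pow_one])
    exact ⟨hp.toSylow (by rw [hidx]; exact h.not_dvd_card_C), rfl⟩
  obtain ⟨T, hT⟩ := hsyl q hqN hq
  obtain ⟨T', hT'⟩ := hsyl q' hq'N hq'
  obtain ⟨n, hn⟩ := MulAction.exists_smul_eq (N S) T T'
  have hmem : n * ⟨q, hqN⟩ * n⁻¹ ∈ (T' : Subgroup (N S)) := by
    rw [← hn]
    exact ⟨⟨q, hqN⟩, show (⟨q, hqN⟩ : N S) ∈ (T : Subgroup (N S)) by
      rw [hT]; exact mem_zpowers _, rfl⟩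
  rw [hT', ← mem_powers_iff_mem_zpowers] at hmem
  obtain ⟨m, hm⟩ := hmem
  obtain ⟨c, hc, i, -, hci⟩ := h.decomp hqN (h.not_mem_C hq) n.2
  refine ⟨c, hc, m, ?_⟩
  have hm' : q' ^ m = (n : G) * q * (n : G)⁻¹ := congrArg Subtype.val hm
  rw [hm', hci]
  group

/-- `C(S)` is transitive on the cosets other than `N(S)`. -/
theorem C_transitive {a b : G} (ha : a ∉ N S) (hb : b ∉ N S) : ∃ c ∈ C S, b⁻¹ * c * a ∈ N S := by
  obtain ⟨i, hi, hiN, hai⟩ := h.exists_invol_coset ha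
  obtain ⟨j, hj, hjN, hbj⟩ := h.exists_invol_coset hb
  obtain ⟨q, hqD, -, hq, -⟩ := h.exists_inverted hi hiN
  obtain ⟨q', hq'D, -, hq', -⟩ := h.exists_inverted hj hjN
  obtain ⟨c, hc, m, hm⟩ := h.conj_orderP (mem_D.1 hqD).1 (mem_D.1 hq'D).1 hq hq'
  refine ⟨c, hc, ?_⟩
  have hN : c * q * c⁻¹ ∈ N S :=
    mul_mem (mul_mem (h.C_le_N hc) (mem_D.1 hqD).1) (inv_mem (h.C_le_N hc))
  have hP : orderOf (c * q * c⁻¹) = P :=
    (orderOf_injective (MulAut.conj c).toMonoidHom (MulAut.conj c).injective q).trans hq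
  have hca : c * a ∉ N S := fun hm => ha (by
    have := mul_mem (inv_mem (h.C_le_N hc)) hm
    rwa [inv_mul_cancel_left] at this)
  have hqa : a⁻¹ * q * a ∈ N S := by
    rw [show a⁻¹ * q * a = (a⁻¹ * i) * (i⁻¹ * q * i) * (a⁻¹ * i)⁻¹ by group]
    exact mul_mem (mul_mem hai (mem_D.1 hqD).2) (inv_mem hai)
  have hq'b : b⁻¹ * q' * b ∈ N S := by
    rw [show b⁻¹ * q' * b = (b⁻¹ * j) * (j⁻¹ * q' * j) * (b⁻¹ * j)⁻¹ by group]
    exact mul_mem (mul_mem hbj (mem_D.1 hq'D).2) (inv_mem hbj)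
  have h1 := h.fixes_two hN hP hb hca (by
    rw [hm, show b⁻¹ * q' ^ m * b = b⁻¹ * q' ^ m * b⁻¹⁻¹ by rw [inv_inv], ← conj_pow, inv_inv]
    exact pow_mem hq'b m) (by
    rw [show (c * a)⁻¹ * (c * q * c⁻¹) * (c * a) = a⁻¹ * q * a by group]
    exact hqa)
  rwa [mul_assoc]

/-- The number of cosets of `N(S)`. -/
theorem index_N {u : G} (hu : orderOf u = 2) (huN : u ∉ N S) :
    (N S).index = 1 + (D S u ⊓ C S).relIndex (C S) := by
  classical
  haveI := Fintype.ofFinite (G ⧸ N S)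
  let f : C S → G ⧸ N S := fun c => QuotientGroup.mk ((c : G) * u)
  have hne : ∀ c : C S, f c ≠ QuotientGroup.mk 1 := fun c e => huN (by
    have h1 := QuotientGroup.eq.1 e
    rw [mul_one, inv_mem_iff] at h1
    have := mul_mem (inv_mem (h.C_le_N c.2)) h1
    rwa [inv_mul_cancel_left] at this)
  have hker : ∀ c c' : C S, f c = f c' ↔ c⁻¹ * c' ∈ (D S u ⊓ C S).subgroupOf (C S) := by
    intro c c'
    rw [QuotientGroup.eq, mem_subgroupOf]
    constructor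
    · intro hm
      refine ⟨mem_D.2 ⟨h.C_le_N (c⁻¹ * c').2, ?_⟩, (c⁻¹ * c').2⟩
      rw [coe_mul, coe_inv]
      rwa [mul_inv_rev, show u⁻¹ * (c : G)⁻¹ * (↑c' * u) = u⁻¹ * ((c : G)⁻¹ * c') * u by group] at hm
    · rintro ⟨hm, -⟩
      have := (mem_D.1 hm).2
      rw [coe_mul, coe_inv] at this
      rwa [mul_inv_rev, show u⁻¹ * (c : G)⁻¹ * (↑c' * u) = u⁻¹ * ((c : G)⁻¹ * c') * u by group]
  let F : C S ⧸ (D S u ⊓ C S).subgroupOf (C S) → {x : G ⧸ N S // x ≠ QuotientGroup.mk 1} :=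
    Quotient.lift (fun c => ⟨f c, hne c⟩) fun c c' hcc =>
      Subtype.ext ((hker c c').2 (QuotientGroup.leftRel_apply.1 hcc))
  have hF : Function.Bijective F := by
    refine ⟨?_, ?_⟩
    · rintro ⟨c⟩ ⟨c'⟩ e
      exact Quotient.sound (QuotientGroup.leftRel_apply.2 ((hker c c').1 (congrArg Subtype.val e)))
    · rintro ⟨x, hx⟩
      obtain ⟨g, rfl⟩ := QuotientGroup.mk_surjective x
      have hgN : g ∉ N S := fun hm => hx (QuotientGroup.eq.2 (by simpa using hm))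
      obtain ⟨c, hc, hm⟩ := h.C_transitive huN hgN
      refine ⟨QuotientGroup.mk ⟨c, hc⟩, Subtype.ext (QuotientGroup.eq.2 ?_)⟩
      rw [show (c * u)⁻¹ * g = (g⁻¹ * c * u)⁻¹ by group]
      exact inv_mem hm
  rw [relIndex, index_eq_card, index_eq_card, Nat.card_congr (Equiv.ofBijective F hF),
    Nat.card_eq_fintype_card, Nat.card_eq_fintype_card, Fintype.card_subtype_compl,
    Fintype.card_subtype_eq]
  have : 0 < Fintype.card (G ⧸ N S) := Fintype.card_pos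
  omega

end H1.TIElem.Hyp
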